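import Groth.Agent.EtLocCohLib.ConstDev
import Groth.Agent.EtShLib.LocConst
import Mathlib.GroupTheory.FiniteAbelian.Basic
import Mathlib.RingTheory.Polynomial.Cyclotomic.Roots
import Mathlib.FieldTheory.Minpoly.IsIntegrallyClosed
import Mathlib.RingTheory.RootsOfUnity.Complex

/-!
# Finite constant coefficients reduce to cyclic ones
-/

set_option autoImplicit false
set_option linter.all false
set_option backward.isDefEq.respectTransparency false
set_option backward.isDefEq.respectTransparency.types false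
set_option synthInstance.maxHeartbeats 400000
set_option maxHeartbeats 1600000

universe u

open CategoryTheory CategoryTheory.Limits AlgebraicGeometry Opposite
open Groth.Agent Groth.Agent.EtShLib EtLocCohLib

noncomputable section

namespace EtSmPairLib

/-- A power of a root of the `n`-th cyclotomic polynomial is a root of the `m`-th one. -/
theorem aeval_cyclotomic_pow {A : Type*} [CommRing A] {n : ℕ} (hn : 0 < n) {ζ : A}
    (hζ : Polynomial.aeval ζ (Polynomial.cyclotomic n ℤ) = 0) {m : ℕ} (hm : m ∣ n) :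
    Polynomial.aeval (ζ ^ (n / m)) (Polynomial.cyclotomic m ℤ) = 0 := by
  obtain ⟨d, hd⟩ := hm
  have hm0 : 0 < m := Nat.pos_of_ne_zero fun h => hn.ne' (by rw [hd, h, zero_mul])
  have hdiv : n / m = d := by rw [hd, Nat.mul_div_cancel_left _ hm0]
  rw [hdiv]
  let μ : ℂ := Complex.exp (2 * Real.pi * Complex.I / n)
  have hμ : IsPrimitiveRoot μ n := Complex.isPrimitiveRoot_exp n hn.ne'
  have hμm : IsPrimitiveRoot (μ ^ d) m := hμ.pow hn (by rw [hd, mul_comm])
  have h0 : Polynomial.aeval μ ((Polynomial.cyclotomic m ℤ).comp (Polynomial.X ^ d)) = 0 := by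
    rw [Polynomial.aeval_comp, map_pow, Polynomial.aeval_X, Polynomial.cyclotomic_eq_minpoly hμm hm0, minpoly.aeval]
  have hdvd := minpoly.isIntegrallyClosed_dvd (hμ.isIntegral hn) h0
  rw [← Polynomial.cyclotomic_eq_minpoly hμ hn] at hdvd
  have h1 := Polynomial.aeval_eq_zero_of_dvd_aeval_eq_zero hdvd hζ
  rwa [Polynomial.aeval_comp, map_pow, Polynomial.aeval_X] at h1

/-- Killed sheaves in terms of the identity. -/
theorem nsmul_id_eq_zero {X : Scheme.{u}} {n : ℕ} {F : EtCoh.Ab X} (h : EtCoh.KilledBy n F) : n • 𝟙 F = 0 := by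
  refine Sheaf.hom_ext (NatTrans.ext (funext fun W => AddCommGrpCat.ext fun s => ?_))
  exact (app_nsmul_id F n W.unop s).trans (h W.unop s)

/-- Killed sheaves are preserved by additive functors and isomorphisms. -/
theorem nsmul_id_of_iso {C D : Type*} [Category C] [Category D] [Preadditive C] [Preadditive D] (G : C ⥤ D)
    [G.Additive] {F : C} {K : D} (e : G.obj F ≅ K) {n : ℕ} (h : n • 𝟙 F = 0) : n • 𝟙 K = 0 := by
  have h1 : n • 𝟙 (G.obj F) = 0 := by
    rw [← CategoryTheory.Functor.map_id, ← Functor.map_nsmul, h, Functor.map_zero]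
  calc n • 𝟙 K = e.inv ≫ (n • 𝟙 (G.obj F)) ≫ e.hom := by simp
    _ = 0 := by simp [h1]

/-- A constant sheaf killed by `n` has values killed by `n`. -/
theorem nsmul_eq_zero_of_cK {X : Scheme.{u}} [Nonempty X] {n : ℕ} {A : AddCommGrpCat.{u + 1}}
    (h : n • 𝟙 ((cK X).obj A) = 0) (a : A) : n • a = 0 := by
  obtain ⟨x⟩ := ‹Nonempty X›
  obtain ⟨Ω, _, _, ξ, hξ⟩ := exists_geometric_pt x
  obtain ⟨t⟩ := exists_fib_of_range ξ (U := EtCoh.top X) ⟨ξ.base default, rfl⟩
  haveI := isCst_cstUnit (X := X) A Ω ξ t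
  let s := cstUnit X A a
  have hs : cstUnit X A (n • a) = 0 := by
    rw [map_nsmul (cstUnit X A).hom n a]
    refine (app_nsmul_id ((cK X).obj A) n (EtCoh.top X) s).symm.trans ?_
    rw [h]
    rfl
  have hb := (ConcreteCategory.bijective_of_isIso (cstUnit X A ≫ germ ξ ((cK X).obj A) (EtCoh.top X) t)).1
  apply hb
  rw [map_zero (cstUnit X A ≫ germ ξ ((cK X).obj A) (EtCoh.top X) t).hom, ConcreteCategory.comp_apply, hs]
  exact map_zero (germ ξ ((cK X).obj A) (EtCoh.top X) t).hom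

/-- A finite group killed by `n` is a retract of cyclic ones. -/
theorem exists_cyclic_decomp (n : ℕ) (A : AddCommGrpCat.{u + 1}) [Finite A] (hA : ∀ a : A, n • a = 0) :
    ∃ (ι : Type) (_ : Fintype ι) (_ : DecidableEq ι) (m : ι → ℕ) (π : ∀ i, A ⟶ AddCommGrpCat.of (ULift.{u + 1} (ZMod (m i))))
      (σ : ∀ i, AddCommGrpCat.of (ULift.{u + 1} (ZMod (m i))) ⟶ A),
      (∀ i, m i ∣ n) ∧ (∑ i, π i ≫ σ i = 𝟙 A) ∧ (∀ i, σ i ≫ π i = 𝟙 _) ∧ ∀ i j, i ≠ j → σ i ≫ π j = 0 := by
  classical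
  obtain ⟨ι, _, m, -, ⟨e⟩⟩ := AddCommGroup.equiv_directSum_zmod_of_finite' (Shrink.{0} A)
  let e' : A ≃+ DirectSum ι fun i => ZMod (m i) := (Shrink.addEquiv.{0} (α := A)).symm.trans e
  let π : ∀ i, A ⟶ AddCommGrpCat.of (ULift.{u + 1} (ZMod (m i))) := fun i => AddCommGrpCat.ofHom
    (AddEquiv.ulift.symm.toAddMonoidHom.comp
      ((DFinsupp.evalAddMonoidHom (β := fun i => ZMod (m i)) i).comp e'.toAddMonoidHom))
  let σ : ∀ i, AddCommGrpCat.of (ULift.{u + 1} (ZMod (m i))) ⟶ A := fun i => AddCommGrpCat.ofHom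
    (e'.symm.toAddMonoidHom.comp ((DirectSum.of (fun i => ZMod (m i)) i).comp AddEquiv.ulift.toAddMonoidHom))
  refine ⟨ι, inferInstance, inferInstance, m, π, σ, fun i => ?_, ?_, fun i => ?_, fun i j hij => ?_⟩
  · have h2 := congrArg (fun a => (e' a) i) (hA (e'.symm (DirectSum.of (fun i => ZMod (m i)) i 1)))
    simp only [map_nsmul, AddEquiv.apply_symm_apply, map_zero] at h2
    rw [DirectSum.zero_apply, DFinsupp.smul_apply, DirectSum.of_eq_same, nsmul_one] at h2
    exact (ZMod.natCast_eq_zero_iff _ _).1 h2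
  · refine ConcreteCategory.hom_ext _ _ fun a => ?_
    have : ∀ s : Finset ι, (∑ i ∈ s, π i ≫ σ i) a = ∑ i ∈ s, e'.symm (DirectSum.of (fun i => ZMod (m i)) i ((e' a) i)) := fun s => by
      induction s using Finset.induction with
      | empty => rfl
      | insert b s hb ih =>
        rw [Finset.sum_insert hb, Finset.sum_insert hb, ← ih]
        rfl
    rw [this]
    refine e'.injective ((map_sum e' _ _).trans ?_)
    simp only [AddEquiv.apply_symm_apply]
    exact DirectSum.sum_univ_of (e' a)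
  · refine ConcreteCategory.hom_ext _ _ fun a => ?_
    show ULift.up ((e' (e'.symm (DirectSum.of (fun i => ZMod (m i)) i a.down))) i) = a
    rw [AddEquiv.apply_symm_apply, DirectSum.of_eq_same]
  · refine ConcreteCategory.hom_ext _ _ fun a => ?_
    show ULift.up ((e' (e'.symm (DirectSum.of (fun i => ZMod (m i)) i a.down))) j) = 0
    rw [AddEquiv.apply_symm_apply, DirectSum.of_eq_of_ne _ _ _ hij.symm]
    rfl

variable {X X' : Scheme.{u}} (G₁ G₂ : EtCoh.Ab X ⥤ EtCoh.Ab X') [G₁.Additive] [G₂.Additive]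

/-- Vanishing for cyclic coefficients gives vanishing for finite ones. -/
theorem isZero_of_cyclic (n : ℕ) (A : AddCommGrpCat.{u + 1}) [Finite A] (hA : ∀ a : A, n • a = 0)
    (h : ∀ m : ℕ, m ∣ n → IsZero (G₁.obj (EtCoh.const X (ZMod m)))) : IsZero (G₁.obj ((cK X).obj A)) := by
  obtain ⟨ι, _, _, m, π, σ, hm, hsum, -, -⟩ := exists_cyclic_decomp n A hA
  rw [IsZero.iff_id_eq_zero]
  show 𝟙 ((cK X ⋙ G₁).obj A) = 0
  rw [← CategoryTheory.Functor.map_id, ← hsum, Functor.map_sum]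
  refine Finset.sum_eq_zero fun i _ => ?_
  rw [Functor.map_comp, (show IsZero ((cK X ⋙ G₁).obj (AddCommGrpCat.of (ULift.{u + 1} (ZMod (m i))))) from h _ (hm i)).eq_of_tgt
    ((cK X ⋙ G₁).map (π i)) 0, zero_comp]

/-- Isomorphisms for cyclic coefficients give isomorphisms for finite ones. -/
theorem nonempty_iso_of_cyclic (n : ℕ) (A : AddCommGrpCat.{u + 1}) [Finite A] (hA : ∀ a : A, n • a = 0)
    (h : ∀ m : ℕ, m ∣ n → Nonempty (G₁.obj (EtCoh.const X (ZMod m)) ≅ G₂.obj (EtCoh.const X (ZMod m)))) :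
    Nonempty (G₁.obj ((cK X).obj A) ≅ G₂.obj ((cK X).obj A)) := by
  obtain ⟨ι, _, _, m, π, σ, hm, hsum, hdiag, hoff⟩ := exists_cyclic_decomp n A hA
  let e := fun i => (h (m i) (hm i)).some
  let K₁ := cK X ⋙ G₁
  let K₂ := cK X ⋙ G₂
  let a : ∀ i, K₁.obj (AddCommGrpCat.of (ULift.{u + 1} (ZMod (m i)))) ≅ K₂.obj (AddCommGrpCat.of (ULift.{u + 1} (ZMod (m i)))) :=
    fun i => e i
  have key : ∀ (P Q : AddCommGrpCat.{u + 1} ⥤ EtCoh.Ab X') [P.Additive] [Q.Additive]
      (b : ∀ i, P.obj (AddCommGrpCat.of (ULift.{u + 1} (ZMod (m i)))) ≅ Q.obj (AddCommGrpCat.of (ULift.{u + 1} (ZMod (m i))))),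
      (∑ i, P.map (π i) ≫ (b i).hom ≫ Q.map (σ i)) ≫ (∑ j, Q.map (π j) ≫ (b j).inv ≫ P.map (σ j)) = 𝟙 (P.obj A) := by
    intro P Q _ _ b
    rw [Preadditive.sum_comp, ← CategoryTheory.Functor.map_id P, ← hsum, Functor.map_sum]
    refine Finset.sum_congr rfl fun i _ => ?_
    rw [Preadditive.comp_sum, Finset.sum_eq_single i]
    · simp only [Category.assoc]
      rw [← Q.map_comp_assoc, hdiag i, CategoryTheory.Functor.map_id, Category.id_comp, Iso.hom_inv_id_assoc, P.map_comp]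
    · intro j _ hji
      simp only [Category.assoc]
      rw [← Q.map_comp_assoc, hoff i j hji.symm, Functor.map_zero]
      simp
    · intro hi
      exact absurd (Finset.mem_univ i) hi
  exact ⟨{ hom := ∑ i, K₁.map (π i) ≫ (a i).hom ≫ K₂.map (σ i)
           inv := ∑ j, K₂.map (π j) ≫ (a j).inv ≫ K₁.map (σ j)
           hom_inv_id := key K₁ K₂ a
           inv_hom_id := key K₂ K₁ fun i => (a i).symm }⟩

end EtSmPairLib
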