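import Groth.Agent.EtSmPairLib.Kummer
import Groth.Agent.EtPurEqLib.Chain
import Groth.Agent.EtPurEqLib.Zero
import Mathlib.RingTheory.TensorProduct.Quotient
import Mathlib.Algebra.MvPolynomial.Equiv

/-!
# Purity along a chain of smooth divisors
-/

set_option autoImplicit false
set_option linter.all false
set_option backward.isDefEq.respectTransparency false
set_option backward.isDefEq.respectTransparency.types false
set_option synthInstance.maxHeartbeats 400000
set_option maxHeartbeats 3200000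

universe u

open CategoryTheory CategoryTheory.Limits AlgebraicGeometry Opposite IsLocalRing
open Groth.Agent Groth.Agent.EtShLib EtLocCohLib EtPurLib
open scoped TensorProduct

noncomputable section

namespace EtSmPairLib

/-- Supports in stages: vanishing below. -/
theorem isZero_below {X UY UD : Scheme.{u}} (jY : UY ⟶ X) [IsOpenImmersion jY] [EtCoh.BCCont jY]
    (jD : UD ⟶ X) [IsOpenImmersion jD] [EtCoh.BCCont jD] (hr : Set.range jD.base ⊆ Set.range jY.base)
    (F : EtCoh.Ab X) (k : ℕ) (hk : ∀ q : ℕ, q ≠ k → IsZero ((EtDual.locCoh jD q).obj F)) (i : ℕ) (hi : i < k) :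
    IsZero ((EtDual.locCoh jY i).obj F) := by
  haveI := preservesFiniteLimits_secSupp jY
  have hT : ∀ Q : EtCoh.Ab X, Injective Q → ∀ q : ℕ, 0 < q →
      IsZero (((EtDual.secSupp jY).rightDerived q).obj ((EtDual.secSupp jD).obj Q)) := by
    intro Q hQ q hq
    obtain ⟨q, rfl⟩ := Nat.exists_eq_succ_of_ne_zero hq.ne'
    haveI := hQ
    haveI := injective_secSupp jD Q
    exact (EtDual.secSupp jY).isZero_rightDerived_obj_injective_succ q _
  obtain ⟨h1, -⟩ := one_row (EtDual.secSupp jY) (EtDual.secSupp jD) hT F k hk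
  exact (h1 i hi).of_iso (rdIso (secCompIso jY jD hr) F i).symm

/-- Coordinates adapted to a chain of smooth divisors. -/
def SmChain (R : Type u) [CommRing R] (c : ℕ) (A : Type u) [CommRing A] (y : Fin c → A) : Prop :=
  ∃ (m : ℕ) (φ : MvPolynomial (Fin c ⊕ Fin m) R →+* A), φ.Etale ∧ ∀ i, φ (MvPolynomial.X (Sum.inl i)) = y i

/-- Base change of a quotient. -/
theorem isPushout_quot {A B : Type u} [CommRing A] [CommRing B] (τ : A →+* B) (I : Ideal A) :
    IsPushout (CommRingCat.ofHom (Ideal.Quotient.mk I)) (CommRingCat.ofHom τ)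
      (CommRingCat.ofHom (Ideal.quotientMap (I.map τ) τ Ideal.le_comap_map))
      (CommRingCat.ofHom (Ideal.Quotient.mk (I.map τ))) := by
  refine IsPushout.of_isColimit' ⟨by ext a; simp⟩ (PushoutCocone.IsColimit.mk _ (fun s => CommRingCat.ofHom
    (Ideal.Quotient.lift (I.map τ) s.inr.hom fun b hb => ?_)) (fun s => ?_) (fun s => ?_) (fun s m _ h2 => ?_))
  · have hle : I.map τ ≤ RingHom.ker s.inr.hom := Ideal.map_le_iff_le_comap.2 fun a ha => by
      show s.inr.hom (τ a) = 0
      rw [show s.inr.hom (τ a) = s.inl.hom (Ideal.Quotient.mk I a) from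
        (RingHom.congr_fun (congrArg CommRingCat.Hom.hom s.condition) a).symm, Ideal.Quotient.eq_zero_iff_mem.2 ha,
        map_zero]
    exact hle hb
  · ext a
    exact (RingHom.congr_fun (congrArg CommRingCat.Hom.hom s.condition) a).symm
  · ext b
    rfl
  · ext b
    exact RingHom.congr_fun (congrArg CommRingCat.Hom.hom h2) b

/-- Base change of an étale map along a quotient. -/
theorem etale_quotientMap {P A : Type u} [CommRing P] [CommRing A] (α : P →+* A) (hα : α.Etale)
    (I : Ideal P) (J : Ideal A) (hI : I.map α = J) :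
    (Ideal.quotientMap J α (Ideal.map_le_iff_le_comap.1 hI.le)).Etale := by
  subst hI
  have hJ : I ≤ (I.map α).comap α := Ideal.le_comap_map
  letI : Algebra P A := α.toAlgebra
  letI : Algebra (P ⧸ I) (A ⧸ I.map α) := (Ideal.quotientMap (I.map α) α hJ).toAlgebra
  haveI : IsScalarTower P (P ⧸ I) (A ⧸ I.map α) := IsScalarTower.of_algebraMap_eq fun a => rfl
  haveI : Algebra.IsPushout P A (P ⧸ I) (A ⧸ I.map α) :=
    (CommRingCat.isPushout_iff_isPushout.1 (isPushout_quot α I)).symm
  exact RingHom.Etale.isStableUnderBaseChange P A (P ⧸ I) (A ⧸ I.map α) (show (algebraMap P A).Etale from hα)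

/-- Base change of an étale map along a quotient, with a model of the quotient. -/
theorem etale_quotientMap_comp {P A P' : Type u} [CommRing P] [CommRing A] [CommRing P'] (α : P →+* A) (hα : α.Etale)
    (I : Ideal P) (J : Ideal A) (hI : I.map α = J) (e : P' ≃+* P ⧸ I) :
    ((Ideal.quotientMap J α (Ideal.map_le_iff_le_comap.1 hI.le)).comp e.toRingHom).Etale :=
  RingHom.Etale.respectsIso.2 (Ideal.quotientMap J α (Ideal.map_le_iff_le_comap.1 hI.le)) e (etale_quotientMap α hα I J hI)

/-- The first divisor of a chain. -/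
theorem SmChain.split {R : Type u} [CommRing R] {c : ℕ} {A : Type u} [CommRing A] {y : Fin (c + 1) → A}
    (h : SmChain R (c + 1) A y) :
    ∃ (m : ℕ) (_ : Algebra (Polynomial (MvPolynomial (Fin c ⊕ Fin m) R)) A),
      Algebra.Etale (Polynomial (MvPolynomial (Fin c ⊕ Fin m) R)) A ∧
      algebraMap (Polynomial (MvPolynomial (Fin c ⊕ Fin m) R)) A Polynomial.X = y 0 ∧
      SmChain R c (A ⧸ Ideal.span {y 0}) (Ideal.Quotient.mk (Ideal.span {y 0}) ∘ y ∘ Fin.succ) := by
  obtain ⟨m, φ, hφ, hy⟩ := h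
  let σ : Option (Fin c ⊕ Fin m) ≃ Fin (c + 1) ⊕ Fin m :=
    { toFun := fun o => o.elim (Sum.inl 0) (Sum.map Fin.succ id)
      invFun := fun s => s.elim (fun a => Fin.cases none (fun b => some (Sum.inl b)) a) (fun b => some (Sum.inr b))
      left_inv := fun o => by rcases o with _ | (a | b) <;> simp
      right_inv := fun s => by
        rcases s with a | b
        · refine Fin.cases ?_ (fun b => ?_) a <;> simp
        · simp }
  let P := MvPolynomial (Fin c ⊕ Fin m) R
  let e : Polynomial P ≃ₐ[R] MvPolynomial (Fin (c + 1) ⊕ Fin m) R :=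
    (MvPolynomial.optionEquivLeft R (Fin c ⊕ Fin m)).symm.trans (MvPolynomial.renameEquiv R σ)
  let α : Polynomial P →+* A := φ.comp e.toRingEquiv.toRingHom
  have hα : α.Etale := RingHom.Etale.respectsIso.2 φ e.toRingEquiv hφ
  letI : Algebra (Polynomial P) A := α.toAlgebra
  haveI hA : Algebra.Etale (Polynomial P) A := RingHom.etale_algebraMap.1 hα
  have hX : α Polynomial.X = y 0 := by
    rw [← hy 0]
    refine congrArg φ ?_
    show MvPolynomial.rename σ ((MvPolynomial.optionEquivLeft R (Fin c ⊕ Fin m)).symm Polynomial.X) = _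
    rw [MvPolynomial.optionEquivLeft_symm_X, MvPolynomial.rename_X]
    rfl
  refine ⟨m, inferInstance, hA, hX, m, ?_⟩
  let I : Ideal (Polynomial P) := Ideal.span {Polynomial.X}
  let π := Ideal.Quotient.mk (Ideal.span {y 0})
  let β : P →+* A ⧸ Ideal.span {y 0} := π.comp (α.comp Polynomial.C)
  refine ⟨β, ?_, fun i => ?_⟩
  swap
  · show π (α (Polynomial.C (MvPolynomial.X (Sum.inl i)))) = π (y i.succ)
    refine congrArg π ?_
    rw [← hy i.succ]
    refine congrArg φ ?_
    show MvPolynomial.rename σ ((MvPolynomial.optionEquivLeft R (Fin c ⊕ Fin m)).symm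
      (Polynomial.C (MvPolynomial.X (Sum.inl i)))) = _
    rw [MvPolynomial.optionEquivLeft_symm_C_X, MvPolynomial.rename_X]
    rfl
  have hI : I.map (algebraMap (Polynomial P) A) = Ideal.span {y 0} := by
    rw [Ideal.map_span, Set.image_singleton]
    exact congrArg (fun a => Ideal.span {a}) hX
  let γ := Ideal.quotientMap (Ideal.span {y 0}) α (Ideal.map_le_iff_le_comap.1 hI.le)
  let ev : P ≃+* Polynomial P ⧸ I := RingEquiv.ofBijective ((Ideal.Quotient.mk I).comp Polynomial.C) ⟨fun a b h => by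
      have h1 : (Polynomial.C a - Polynomial.C b : Polynomial P) ∈ I := Ideal.Quotient.eq.1 h
      rw [Ideal.mem_span_singleton, Polynomial.X_dvd_iff] at h1
      simpa [sub_eq_zero] using h1,
    fun z => by
      obtain ⟨p, rfl⟩ := Ideal.Quotient.mk_surjective z
      refine ⟨p.coeff 0, Ideal.Quotient.eq.2 ?_⟩
      rw [Ideal.mem_span_singleton, Polynomial.X_dvd_iff]
      simp⟩
  rw [show β = γ.comp ev.toRingHom from RingHom.ext fun a => rfl]
  exact etale_quotientMap_comp α hα I _ hI ev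

/-- Vanishing and the top sheaf for one divisor. -/
theorem divisor (P : Type u) [CommRing P] (A : Type u) [CommRing A] [Algebra (Polynomial P) A]
    [Algebra.Etale (Polynomial P) A] [EtCoh.BCCont (VD P A).ι] (n : ℕ) (hn : IsUnit (n : A)) (q : ℕ) (hq : q ≠ 2) :
    IsZero ((EtDual.locCoh (VD P A).ι q).obj (EtCoh.const (Spec (CommRingCat.of A)) (ZMod n))) := by
  let j := (VD P A).ι
  let F := EtCoh.const (Spec (CommRingCat.of A)) (ZMod n)
  haveI := isIso_unit_const P A n
  rcases q with _ | _ | p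
  · haveI := EtLocCohLib.preservesFiniteLimits_secSupp j
    exact (isZero_kernel_of_mono (EtDual.unitApp j F)).of_iso ((EtDual.secSupp j).rightDerivedZeroIsoSelf.app F)
  · obtain ⟨⟨e⟩, -⟩ := Groth.Agent.S6658.result j F
    exact (isZero_cokernel_of_epi (EtDual.unitApp j F)).of_iso e.symm
  · obtain ⟨-, h⟩ := Groth.Agent.S6658.result j F
    obtain ⟨e⟩ := h (p + 1) (by omega)
    exact (isZero_Rpush P A n hn (p + 1) (by omega)).of_iso e.symm

/-- Purity along a chain. -/
theorem chain_main (R : Type u) [CommRing R] : ∀ (c : ℕ) (A : Type u) [CommRing A] (y : Fin c → A)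
    (hy : SmChain R c A y) (n : ℕ) (hn : IsUnit (n : A)) (h0 : 0 < n) (ζ : A)
    (hζ : Polynomial.aeval ζ (Polynomial.cyclotomic n ℤ) = 0)
    {U : Scheme.{u}} (j : U ⟶ Spec (CommRingCat.of A)) [IsOpenImmersion j] [EtCoh.BCCont j]
    (hj : Set.range j.base = (PrimeSpectrum.zeroLocus (Set.range y))ᶜ),
    (∀ q : ℕ, q ≠ 2 * c → IsZero ((EtDual.locCoh j q).obj (EtCoh.const (Spec (CommRingCat.of A)) (ZMod n)))) ∧
    Nonempty ((EtDual.locCoh j (2 * c)).obj (EtCoh.const (Spec (CommRingCat.of A)) (ZMod n)) ≅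
      (EtCoh.push (Spec.map (CommRingCat.ofHom (Ideal.Quotient.mk (Ideal.span (Set.range y)))))).obj
        (EtCoh.const (Spec (CommRingCat.of (A ⧸ Ideal.span (Set.range y)))) (ZMod n)))
  | 0, A, _, y, hy, n, _, _, _, _, U, j, _, _, hj => by
    haveI : IsEmpty U := ⟨fun z => by
      have h := hj.le ⟨z, rfl⟩
      rw [Set.range_eq_empty y, PrimeSpectrum.zeroLocus_empty, Set.compl_univ] at h
      exact h⟩
    refine ⟨fun q hq => ?_, ?_⟩
    · obtain ⟨p, rfl⟩ : ∃ p, q = p + 1 := ⟨q - 1, by omega⟩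
      exact EtPurEqLib.isZero_locCoh_empty j _ p
    let π := Ideal.Quotient.mk (Ideal.span (Set.range y))
    haveI : IsIso (CommRingCat.ofHom π) := by
      refine (ConcreteCategory.isIso_iff_bijective _).2 ⟨?_, Ideal.Quotient.mk_surjective⟩
      show Function.Injective π
      rw [RingHom.injective_iff_ker_eq_bot, Ideal.mk_ker, Set.range_eq_empty y, Ideal.span_empty]
    obtain ⟨e0⟩ := nonempty_locCoh_empty j (EtCoh.const (Spec (CommRingCat.of A)) (ZMod n))
    obtain ⟨e1⟩ := EtPurEqLib.nonempty_push_iso (Spec.map (CommRingCat.ofHom π)) n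
    exact ⟨e0 ≪≫ e1.symm⟩
  | c + 1, A, _, y, hy, n, hn, h0, ζ, hζ, U, jY, _, _, hjY => by
    obtain ⟨m, _, _, hX, hrest⟩ := hy.split
    let P := MvPolynomial (Fin c ⊕ Fin m) R
    let π := Ideal.Quotient.mk (Ideal.span {y 0})
    let B := A ⧸ Ideal.span {y 0}
    let X := Spec (CommRingCat.of A)
    let D := Spec (CommRingCat.of B)
    let iD : D ⟶ X := Spec.map (CommRingCat.ofHom π)
    haveI : IsClosedImmersion iD := IsClosedImmersion.spec_of_surjective _ Ideal.Quotient.mk_surjective
    let jD := (VD P A).ι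
    have hiD : Set.range iD.base = PrimeSpectrum.zeroLocus {y 0} := by
      rw [← PrimeSpectrum.zeroLocus_span]
      exact (range_comap_of_surjective _ _ Ideal.Quotient.mk_surjective).trans (by rw [Ideal.mk_ker])
    have hjD : Set.range jD.base = (PrimeSpectrum.zeroLocus {y 0})ᶜ := by
      rw [← hX]
      exact (Scheme.Opens.range_ι (VD P A)).trans (PrimeSpectrum.basicOpen_eq_zeroLocus_compl _)
    have hr : Set.range jD.base ⊆ Set.range jY.base := by
      rw [hjD, hjY]
      exact Set.compl_subset_compl.2 (PrimeSpectrum.zeroLocus_anti_mono (Set.singleton_subset_iff.2 ⟨0, rfl⟩))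
    obtain ⟨e2'⟩ := nonempty_locCoh_two P A n hn h0 ζ hζ
    have e2 : Nonempty ((EtDual.locCoh jD 2).obj (EtCoh.const X (ZMod n)) ≅ (EtCoh.push iD).obj (EtCoh.const D (ZMod n))) := by
      revert e2'
      rw [show par P A = y 0 from hX]
      exact fun e => ⟨e⟩
    obtain ⟨e2⟩ := e2
    have hz : ∀ q : ℕ, q ≠ 2 → IsZero ((EtDual.locCoh jD q).obj (EtCoh.const X (ZMod n))) := fun q hq =>
      divisor P A n hn q hq
    let W : D.Opens := iD ⁻¹ᵁ jY.opensRange
    let jY' := W.ι
    have hW : Set.range jY'.base = iD.base ⁻¹' Set.range jY.base := Scheme.Opens.range_ι W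
    have hjY' : Set.range jY'.base = (PrimeSpectrum.zeroLocus (Set.range (π ∘ y ∘ Fin.succ)))ᶜ := by
      rw [hW, hjY]
      ext Q
      show ¬ (Set.range y ⊆ (PrimeSpectrum.comap π Q).asIdeal) ↔ ¬ (Set.range (π ∘ y ∘ Fin.succ) ⊆ Q.asIdeal)
      rw [Set.range_subset_iff, Set.range_subset_iff, Fin.forall_fin_succ]
      refine not_congr ⟨fun h k => h.2 k, fun h => ⟨?_, fun k => h k⟩⟩
      show π (y 0) ∈ Q.asIdeal
      rw [Ideal.Quotient.eq_zero_iff_mem.2 (Ideal.mem_span_singleton_self (y 0))]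
      exact zero_mem _
    obtain ⟨hvan, ⟨e4⟩⟩ := chain_main R c B (π ∘ y ∘ Fin.succ) hrest n (by simpa using hn.map π) h0 (π ζ)
      (MuConstLib.aeval_map π hζ) jY' hjY'
    have step : ∀ q : ℕ, Nonempty ((EtDual.locCoh jY (q + 2)).obj (EtCoh.const X (ZMod n)) ≅
        (EtCoh.push iD).obj ((EtDual.locCoh jY' q).obj (EtCoh.const D (ZMod n)))) := fun q => by
      obtain ⟨e1⟩ := locCoh_one_row jY jD hr (EtCoh.const X (ZMod n)) 2 hz q
      obtain ⟨e3⟩ := nonempty_locCoh_push jY iD jY' hW (EtCoh.const D (ZMod n)) q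
      exact ⟨e1 ≪≫ (EtDual.locCoh jY q).mapIso e2 ≪≫ e3⟩
    refine ⟨fun q hq => ?_, ?_⟩
    · rcases Nat.lt_or_ge q 2 with hlt | hge
      · exact isZero_below jY jD hr _ 2 hz q hlt
      · obtain ⟨p, rfl⟩ := Nat.exists_eq_add_of_le' hge
        obtain ⟨e⟩ := step p
        haveI : (EtCoh.push iD).Additive := { }
        exact ((EtCoh.push iD).map_isZero (hvan p (by omega))).of_iso e
    let J' := Ideal.span (Set.range (π ∘ y ∘ Fin.succ))
    let ε : A ⧸ Ideal.span (Set.range y) ≃+* B ⧸ J' :=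
      ((Ideal.quotEquivOfEq (span_range_succ y)).trans (DoubleQuot.quotQuotEquivQuotSup _ _).symm).trans
        (Ideal.quotEquivOfEq (show (Ideal.span (Set.range (y ∘ Fin.succ))).map π = J' by
          rw [Ideal.map_span, ← Set.range_comp]))
    haveI : IsIso (CommRingCat.ofHom ε.toRingHom) := (ConcreteCategory.isIso_iff_bijective _).2 ε.bijective
    let e := Spec.map (CommRingCat.ofHom ε.toRingHom)
    let i := Spec.map (CommRingCat.ofHom (Ideal.Quotient.mk (Ideal.span (Set.range y))))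
    let i₂ := Spec.map (CommRingCat.ofHom (Ideal.Quotient.mk J'))
    have hw : i₂ ≫ iD = e ≫ i := by
      simp only [e, i, i₂, iD, ← Spec.map_comp, ← CommRingCat.ofHom_comp]
      exact congrArg (fun t => Spec.map (CommRingCat.ofHom t)) (RingHom.ext fun a => rfl)
    obtain ⟨e5⟩ := EtPurEqLib.nonempty_push_iso e n
    obtain ⟨e6⟩ := step (2 * c)
    exact ⟨eqToIso (by rw [show 2 * (c + 1) = 2 * c + 2 by ring]) ≪≫ e6 ≪≫
      (EtCoh.push iD).mapIso e4 ≪≫ (EtCoh.pushComp iD i₂).app _ ≪≫ eqToIso (by rw [hw]) ≪≫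
      ((EtCoh.pushComp i e).app _).symm ≪≫ (EtCoh.push i).mapIso e5⟩

end EtSmPairLib
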