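import Groth.Agent.EtSmPairLib.Strict
import Groth.Agent.EtKummerLib.Basic
import Groth.Agent.RDerLib.Delta
import Groth.Agent.EtLocCohLib.ConstDev
import Groth.Agent.EtPurEqLib.Restr
import Groth.Agent.EtPurEqLib.Outside
import Groth.Agent.EtPurEqLib.Local
import Groth.Agent.EtShLib.StrictLocal
import Groth.Agent.S6658

/-!
# The Kummer class of a smooth divisor
-/

set_option autoImplicit false
set_option linter.all false
set_option backward.isDefEq.respectTransparency false
set_option backward.isDefEq.respectTransparency.types false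
set_option synthInstance.maxHeartbeats 400000
set_option maxHeartbeats 3200000

universe u

open CategoryTheory CategoryTheory.Limits AlgebraicGeometry Opposite Polynomial IsLocalRing
open Groth.Agent Groth.Agent.EtShLib EtPurLib

noncomputable section

namespace EtSmPairLib

variable (P : Type u) [CommRing P] (A : Type u) [CommRing A] [Algebra P[X] A] [Algebra.Etale P[X] A]

theorem exists_kummer (n : ℕ) (hn : IsUnit (n : A)) (h0 : 0 < n) :
    ∃ θ : AddCommGrpCat.of (ULift.{u + 1} (ZMod n)) ⟶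
        ((EtCoh.Rpush (VD P A).ι 1).obj (EtCoh.mu (VD P A : Scheme.{u}) n)).obj.obj (op (EtCoh.top (Spec (CommRingCat.of A)))),
      ∀ (Ω : Type u) [Field Ω] [IsSepClosed Ω] (ξ : Spec (CommRingCat.of Ω) ⟶ Spec (CommRingCat.of A))
        (v : Fib ξ (EtCoh.top (Spec (CommRingCat.of A)))), par P A ∈ (ξ.base default).asIdeal →
        Function.Injective (θ ≫ germ ξ ((EtCoh.Rpush (VD P A).ι 1).obj (EtCoh.mu (VD P A : Scheme.{u}) n))
          (EtCoh.top _) v) := by
  haveI : NeZero n := ⟨h0.ne'⟩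
  let X₀ := Spec (CommRingCat.of A)
  let U : Scheme.{u} := VD P A
  let j : U ⟶ X₀ := (VD P A).ι
  let γ : A →+* Γ(X₀, ⊤) := (Scheme.ΓSpecIso (CommRingCat.of A)).inv.hom
  have hinv : Dix.InvertibleOn U n := fun x h => by
    have h1 := ((hn.map γ).map j.appTop.hom).map (U.presheaf.germ ⊤ x trivial).hom
    have h2 := h1.map (IsLocalRing.residue (U.presheaf.stalk x))
    simp only [map_natCast] at h2
    exact h2.ne_zero h
  let S := EtKummerLib.kummer U n
  have hS := EtKummerLib.kummer_shortExact (X := U) hinv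
  haveI : PreservesLimitsOfSize.{0, 0} (EtCoh.push j) := (EtCoh.pullPushAdj j).rightAdjoint_preservesLimits
  haveI : PreservesFiniteLimits (EtCoh.push j) := PreservesLimitsOfSize.preservesFiniteLimits _
  haveI : (EtCoh.push j).Additive := (EtCoh.pullPushAdj j).right_adjoint_additive
  let T := RDerLib.derivedLES (EtCoh.push j)
  let R1 : EtCoh.Ab X₀ := (EtCoh.Rpush j 1).obj (EtCoh.mu U n)
  let G := (EtCoh.push j).obj (EtCoh.Gm U)
  let r0 := (EtCoh.push j).rightDerivedZeroIsoSelf
  let D : G ⟶ R1 := r0.inv.app _ ≫ T.δ S hS 0 1 rfl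
  have hp : (EtCoh.push j).map (EtCoh.powMap U n) = n • 𝟙 G := by
    show (EtCoh.push j).map (n • 𝟙 (EtCoh.Gm U)) = _
    rw [Functor.map_nsmul, CategoryTheory.Functor.map_id]
  have hzero : (n • 𝟙 G) ≫ D = 0 := by
    rw [← hp]
    show (EtCoh.push j).map S.g ≫ r0.inv.app _ ≫ T.δ S hS 0 1 rfl = 0
    rw [r0.inv.naturality_assoc, T.comp_δ S hS 0 1 rfl, Limits.comp_zero]
  have hex : (ShortComplex.mk (n • 𝟙 G) D hzero).Exact := by
    refine ShortComplex.exact_of_iso ?_ (T.exact₃ S hS 0 1 rfl)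
    refine ShortComplex.isoMk (r0.app _) (r0.app _) (Iso.refl _) ?_ ?_
    · show r0.hom.app _ ≫ (n • 𝟙 G) = ((EtCoh.push j).rightDerived 0).map S.g ≫ r0.hom.app _
      rw [← hp]
      exact (r0.hom.naturality S.g).symm
    · show r0.hom.app _ ≫ r0.inv.app _ ≫ T.δ S hS 0 1 rfl = T.δ S hS 0 1 rfl ≫ 𝟙 _
      rw [Iso.hom_inv_id_app_assoc, Category.comp_id]
  let top := EtCoh.top X₀
  let W0 := (EtCoh.bc j).obj top
  let t0 : Γ(W0.left, ⊤) := (pullback.fst top.hom j).appTop.hom (γ (par P A))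
  have ht0 : IsUnit t0 := by
    have hbo : X₀.basicOpen (γ (par P A)) = VD P A := by
      rw [basicOpen_eq_of_affine]
    have h1 : W0.left.basicOpen t0 = ⊤ := by
      refine (Scheme.preimage_basicOpen_top (pullback.fst top.hom j) (γ (par P A))).symm.trans (top_le_iff.1 ?_)
      intro z _
      show (pullback.fst top.hom j).base z ∈ X₀.basicOpen (γ (par P A))
      rw [hbo]
      have hc : (pullback.fst top.hom j).base z = j.base ((pullback.snd top.hom j).base z) :=
        congrArg (fun q : pullback top.hom j ⟶ X₀ => q.base z) ((Category.comp_id _).symm.trans pullback.condition)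
      rw [hc]
      exact ((pullback.snd top.hom j).base z).2
    have h2 : IsUnit (W0.left.presheaf.map (homOfLE (le_of_eq h1.symm : (⊤ : W0.left.Opens) ≤ W0.left.basicOpen t0)).op
        (W0.left.presheaf.map (homOfLE (W0.left.basicOpen_le t0)).op t0)) :=
      (RingedSpace.isUnit_res_basicOpen W0.left.toRingedSpace t0).map _
    rwa [← ConcreteCategory.comp_apply, ← Functor.map_comp, ← op_comp,
      Subsingleton.elim (homOfLE _ ≫ homOfLE _) (𝟙 (⊤ : W0.left.Opens)), op_id, W0.left.presheaf.map_id,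
      ConcreteCategory.id_apply] at h2
  let τ : ToType (G.obj.obj (op top)) := (ULift.up (Additive.ofMul ht0.unit) :
    ULift.{u + 1} (Additive (Γ(W0.left, ⊤))ˣ))
  let s : ToType (R1.obj.obj (op top)) := D.hom.app (op top) τ
  have hnR : n • 𝟙 R1 = 0 := by
    show n • 𝟙 (((EtCoh.push j).rightDerived 1).obj (EtCoh.mu U n)) = 0
    rw [← CategoryTheory.Functor.map_id, ← Functor.map_nsmul]
    rw [show n • 𝟙 (EtCoh.mu U n) = 0 from EtKummerLib.nsmul_id_kernel (EtCoh.Gm U) n, Functor.map_zero]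
  have hns : ((n : ℤ) • s) = 0 := by
    rw [natCast_zsmul]
    exact (EtLocCohLib.app_nsmul_id R1 n top s).symm.trans (by rw [hnR]; rfl)
  refine ⟨AddCommGrpCat.ofHom ((ZMod.lift n ⟨zmultiplesHom _ s, hns⟩).comp AddEquiv.ulift.toAddMonoidHom),
    fun Ω _ _ ξ v hξ => (injective_iff_map_eq_zero (_ ≫ germ ξ R1 top v).hom).2 fun a ha => ?_⟩
  let m := a.down.val
  have hm : (germ (A := AddCommGrpCat.{u + 1}) ξ R1 top v) (m • s) = 0 := by
    refine Eq.trans (congrArg _ ?_) ha
    show m • s = ZMod.lift n ⟨zmultiplesHom _ s, hns⟩ a.down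
    conv_rhs => rw [show a.down = ((m : ℤ) : ZMod n) by rw [Int.cast_natCast, ZMod.natCast_rightInverse]]
    rw [ZMod.lift_coe]
    exact (natCast_zsmul s m).symm
  have hker : (stk (A := AddCommGrpCat.{u + 1}) ξ).map D (germ ξ G top v (m • τ)) = 0 := by
    rw [germ_natural_apply, map_nsmul]
    exact hm
  haveI : (stk (A := AddCommGrpCat.{u + 1}) ξ).Additive := Functor.additive_of_preserves_binary_products _
  obtain ⟨p, hp'⟩ := (ShortComplex.ab_exact_iff _).1 (hex.map (stk (A := AddCommGrpCat.{u + 1}) ξ)) _ hker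
  obtain ⟨V, g, w, y, hw, rfl⟩ := exists_germ_below ξ p top v
  have hp2 : germ ξ G V w (n • y) = germ ξ G V w (G.obj.map g.op (m • τ)) := by
    rw [germ_res_apply, hw]
    refine Eq.trans ?_ hp'
    show _ = (stk (A := AddCommGrpCat.{u + 1}) ξ).map (n • 𝟙 G) _
    rw [germ_natural_apply, EtLocCohLib.app_nsmul_id]
  obtain ⟨V', k, w', -, he⟩ := (germ_eq_iff ξ V w _ _).1 hp2
  rw [← ConcreteCategory.comp_apply (G.obj.map g.op), ← Functor.map_comp, ← op_comp, map_nsmul, map_nsmul] at he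
  let f' : Γ(((EtCoh.bc j).obj V').left, ⊤) := MuConstLib.gmVal U (W := (EtCoh.bc j).obj V') (G.obj.map k.op y)
  let t' : Γ(((EtCoh.bc j).obj V').left, ⊤) := ((EtCoh.bc j).map (k ≫ g)).left.appTop.hom t0
  have hrel : f' ^ n = t' ^ m := by
    have h := congrArg (MuConstLib.gmVal U (W := (EtCoh.bc j).obj V')) he
    rw [MuConstLib.gmVal_nsmul, MuConstLib.gmVal_nsmul] at h
    exact h
  -- evaluation on a strict henselisation
  let x := ξ.base default
  obtain ⟨R, _, _, _, _, hR⟩ := Groth.Agent.S0537.result (X₀.presheaf.stalk x)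
  haveI := hR
  haveI : HenselianLocalRing R := Hensel.IsStrictHenselization.henselian (R := X₀.presheaf.stalk x)
  haveI : IsSepClosed (IsLocalRing.ResidueField R) :=
    (Hensel.IsStrictHenselization.isSepClosure (R := X₀.presheaf.stalk x) (S := R)).sep_closed
  obtain ⟨ρ, _, hρ, _, hspec, hmem⟩ := exists_alg P A x R
  have hX : algebraMap P[X] R X = ρ (par P A) := RingHom.congr_fun hρ X
  let gR : Spec (CommRingCat.of R) ⟶ X₀ := Spec.map (CommRingCat.ofHom ρ)
  have hpt : (closedPt R ≫ gR).base default = x := by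
    let d : PrimeSpectrum (IsLocalRing.ResidueField R) :=
      (default : Spec (CommRingCat.of (IsLocalRing.ResidueField R)))
    refine (congrArg gR.base (show (closedPt R).base default = IsLocalRing.closedPoint R from
      IsLocalRing.PrimeSpectrum.comap_residue R d)).trans ?_
    show (Spec.map (CommRingCat.ofHom ρ)).base (IsLocalRing.closedPoint R) = x
    rw [hspec]
    refine Eq.trans (congrArg (X₀.fromSpecStalk x).base ?_) X₀.fromSpecStalk_closedPoint
    exact IsLocalRing.comap_closedPoint (algebraMap (X₀.presheaf.stalk x) R)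
  obtain ⟨w'', -⟩ := exists_fib (closedPt R ≫ gR) V' w'.pt (by
    rw [hpt]
    exact congrArg (fun q : Spec (CommRingCat.of Ω) ⟶ X₀ => q.base default) w'.w)
  obtain ⟨σ, -⟩ := exists_section_fib R _ (w''.lift gR (closedPt R))
  let l : Spec (CommRingCat.of R) ⟶ V'.left := σ.left ≫ pullback.fst V'.hom gR
  have hl : l ≫ V'.hom = gR := by
    rw [Category.assoc, pullback.condition, ← Category.assoc]
    have h := MorphismProperty.Over.w σ
    exact (congrArg (· ≫ gR) h).trans (Category.id_comp _)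
  let Rt := Localization.Away (ρ (par P A))
  let c : Spec (CommRingCat.of Rt) ⟶ Spec (CommRingCat.of R) := Spec.map (CommRingCat.ofHom (algebraMap R Rt))
  obtain ⟨e, he'⟩ := exists_fibre_iso P A ρ
  let L : Spec (CommRingCat.of Rt) ⟶ pullback V'.hom j := pullback.lift (c ≫ l) (e.hom ≫ pullback.fst j gR) (by
    rw [Category.assoc, hl, Category.assoc, pullback.condition, ← Category.assoc]
    exact congrArg (· ≫ gR) he'.symm)
  let ε : Γ(((EtCoh.bc j).obj V').left, ⊤) →+* Rt :=
    (Scheme.ΓSpecIso (CommRingCat.of Rt)).hom.hom.comp L.appTop.hom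
  have hεt : ε t' = algebraMap R Rt (ρ (par P A)) := by
    have hcomp : L ≫ ((EtCoh.bc j).map (k ≫ g)).left ≫ pullback.fst top.hom j =
        Spec.map (CommRingCat.ofHom ((algebraMap R Rt).comp ρ)) := by
      rw [(EtCoh.isPullback_bc_map j (k ≫ g)).w, ← Category.assoc]
      have h2 : (k ≫ g).left = V'.hom := (Category.comp_id _).symm.trans (MorphismProperty.Over.w (k ≫ g))
      rw [h2, pullback.lift_fst, Category.assoc, hl, CommRingCat.ofHom_comp, Spec.map_comp]
    have h3 := congrArg (fun q : Spec (CommRingCat.of Rt) ⟶ X₀ => q.appTop.hom (γ (par P A))) hcomp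
    show (Scheme.ΓSpecIso (CommRingCat.of Rt)).hom.hom
      (L.appTop.hom (((EtCoh.bc j).map (k ≫ g)).left.appTop.hom ((pullback.fst top.hom j).appTop.hom (γ (par P A))))) = _
    refine (congrArg (Scheme.ΓSpecIso (CommRingCat.of Rt)).hom.hom h3).trans ?_
    exact congrArg (fun q => q.hom (γ (par P A))) (Scheme.ΓSpecIso_naturality (CommRingCat.ofHom ((algebraMap R Rt).comp ρ)))
      |>.trans (by
        show ((algebraMap R Rt).comp ρ) ((Scheme.ΓSpecIso (CommRingCat.of A)).hom.hom (γ (par P A))) = _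
        rw [← CommRingCat.comp_apply, Iso.inv_hom_id])
  have hrel' : ε f' ^ n = algebraMap R Rt (ρ (par P A)) ^ m := by
    rw [← hεt, ← map_pow, ← map_pow, hrel]
  have hdvd : n ∣ m := by
    have h := dvd_of_pow_eq P R (hX ▸ (hmem _).1 hξ) n h0 m
    rw [hX] at h
    exact h (ε f') hrel'
  refine ULift.ext _ _ (ZMod.val_injective n ?_)
  show m = (0 : ZMod n).val
  rw [ZMod.val_zero]
  exact Nat.eq_zero_of_dvd_of_lt hdvd (ZMod.val_lt _)

/-- Purity for the divisor: the second local cohomology sheaf. -/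
theorem nonempty_locCoh_two [EtCoh.BCCont (VD P A).ι] (n : ℕ) (hn : IsUnit (n : A)) (h0 : 0 < n) (ζ : A)
    (hζ : Polynomial.aeval ζ (Polynomial.cyclotomic n ℤ) = 0) :
    Nonempty ((EtDual.locCoh (VD P A).ι 2).obj (EtCoh.const (Spec (CommRingCat.of A)) (ZMod n)) ≅
      (EtCoh.push (Spec.map (CommRingCat.ofHom (Ideal.Quotient.mk (Ideal.span {par P A}))))).obj
        (EtCoh.const (Spec (CommRingCat.of (A ⧸ Ideal.span {par P A}))) (ZMod n))) := by
  haveI : NeZero n := ⟨h0.ne'⟩
  let X₀ := Spec (CommRingCat.of A)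
  let U : Scheme.{u} := VD P A
  let j : U ⟶ X₀ := (VD P A).ι
  let γ : A →+* Γ(U, ⊤) := j.appTop.hom.comp (Scheme.ΓSpecIso (CommRingCat.of A)).inv.hom
  obtain ⟨eμ⟩ := MuConstLib.mu_iso_const U n h0 (by simpa using hn.map γ) (γ ζ) (MuConstLib.aeval_map γ hζ)
  let i : Spec (CommRingCat.of (A ⧸ Ideal.span {par P A})) ⟶ X₀ :=
    Spec.map (CommRingCat.ofHom (Ideal.Quotient.mk (Ideal.span {par P A})))
  haveI : IsClosedImmersion i := IsClosedImmersion.spec_of_surjective _ Ideal.Quotient.mk_surjective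
  have hi : Set.range i.base = PrimeSpectrum.zeroLocus {par P A} := by
    rw [← PrimeSpectrum.zeroLocus_span]
    exact (range_comap_of_surjective _ _ Ideal.Quotient.mk_surjective).trans (by rw [Ideal.mk_ker])
  obtain ⟨θ, hθ⟩ := exists_kummer P A n hn h0
  let R1 : EtCoh.Ab X₀ := (EtCoh.Rpush j 1).obj (EtCoh.mu U n)
  let η := θ ≫ ((EtCoh.pullPushAdj i).unit.app R1).hom.app (op (EtCoh.top X₀))
  have hcst : IsCst ((EtCoh.pull i).obj R1) ((EtCoh.bc i).obj (EtCoh.top X₀)) η := by
    intro Ω _ _ ζ' v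
    have hmem : par P A ∈ ((ζ' ≫ i).base default).asIdeal := by
      have h : (ζ' ≫ i).base default ∈ Set.range i.base := ⟨ζ'.base default, rfl⟩
      rw [hi] at h
      exact h rfl
    have hinj := hθ Ω (ζ' ≫ i) (v.proj i ζ') hmem
    obtain ⟨es⟩ := nonempty_stalk_one P A n hn (ζ' ≫ i) hmem (EtCoh.mu U n) eμ
    haveI : IsIso (θ ≫ germ (ζ' ≫ i) R1 (EtCoh.top X₀) (v.proj i ζ')) := by
      rw [← isIso_iff_of_reflects_iso _ (forget AddCommGrpCat.{u + 1}), isIso_iff_bijective]
      refine ⟨hinj, ?_⟩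
      haveI : Finite (ToType ((stk (A := AddCommGrpCat.{u + 1}) (ζ' ≫ i)).obj R1)) := Finite.of_equiv _ es.symm.toEquiv
      have hcard : Nat.card (ToType ((stk (A := AddCommGrpCat.{u + 1}) (ζ' ≫ i)).obj R1)) =
          Nat.card (ULift.{u + 1} (ZMod n)) := by
        rw [Nat.card_congr es.toEquiv, Nat.card_congr Equiv.ulift]
      exact ((Nat.bijective_iff_injective_and_card _).2 ⟨hinj, hcard.symm⟩).2
    have e := germ_stalkPull i ζ' AddCommGrpCat.{u + 1} R1 (EtCoh.top X₀) (v.proj i ζ')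
    rw [Fib.lift_proj] at e
    haveI : IsIso ((stalkPull i ζ' AddCommGrpCat.{u + 1}).hom.app R1) := inferInstance
    show IsIso ((θ ≫ ((adjA i AddCommGrpCat.{u + 1}).unit.app R1).hom.app (op (EtCoh.top X₀))) ≫ germ ζ' _ _ v)
    rw [Category.assoc, ← e, ← Category.assoc]
    infer_instance
  let g : EtCoh.top (Spec (CommRingCat.of (A ⧸ Ideal.span {par P A}))) ⟶ (EtCoh.bc i).obj (EtCoh.top X₀) :=
    MorphismProperty.Over.homMk (pullback.lift i (𝟙 _) ((Category.comp_id _).trans (Category.id_comp _).symm))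
      (pullback.lift_snd _ _ _)
  obtain ⟨eD⟩ := EtLocCohLib.nonempty_iso_cK_of_isCst (hcst.map g)
  -- back to local cohomology
  obtain ⟨-, h6⟩ := Groth.Agent.S6658.result j (EtCoh.const X₀ (ZMod n))
  obtain ⟨e6⟩ := h6 1 le_rfl
  let H := (EtDual.locCoh j 2).obj (EtCoh.const X₀ (ZMod n))
  let eH : R1 ≅ H := (EtCoh.Rpush j 1).mapIso (eμ ≪≫ (EtCore.pullConst j (ZMod n)).symm) ≪≫ e6
  have hsupp : IsZero ((EtCoh.pull j).obj H) := by
    obtain ⟨e⟩ := EtPurLib.nonempty_locCoh_pull j j (𝟙 U) (by ext z; simp) (EtCoh.const X₀ (ZMod n)) 2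
    exact (EtPurEqLib.isZero_locCoh_surjective (𝟙 U) (fun z => ⟨z, rfl⟩) _ _).of_iso e
  haveI : IsIso ((EtCoh.pullPushAdj i).unit.app H) := unit_isIso_of_vanish i H fun W hW => by
    refine EtPurEqLib.subsingleton_of_pull_zero j H hsupp W (hW.trans ?_)
    rw [hi, Scheme.Opens.range_ι]
    exact (PrimeSpectrum.basicOpen_eq_zeroLocus_compl _).ge
  exact ⟨asIso ((EtCoh.pullPushAdj i).unit.app H) ≪≫
    (EtCoh.push i).mapIso ((EtCoh.pull i).mapIso eH.symm ≪≫ eD.symm)⟩

end EtSmPairLib
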