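import Groth.Agent.PunctHensLib.Main
import Groth.Agent.WEtAmpLib.Basic
import Groth.Agent.EtRpushStalkLib.Exists
import Groth.Agent.S7127
import Groth.Agent.S0537
import Groth.Agent.S7128

/-!
# The punctured strictly local line over a base
-/

set_option autoImplicit false
set_option linter.all false
set_option backward.isDefEq.respectTransparency false
set_option backward.isDefEq.respectTransparency.types false
set_option synthInstance.maxHeartbeats 400000
set_option maxHeartbeats 1600000

universe u

open CategoryTheory CategoryTheory.Limits AlgebraicGeometry Polynomial IsLocalRing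
open Groth.Agent Groth.Agent.EtShLib EtPnCohLib
open scoped TensorProduct

noncomputable section

namespace EtSmPairLib

attribute [local instance] Polynomial.algebra

/-- Weakly étale algebras give weakly étale polynomial algebras. -/
theorem weaklyEtale_polynomial (P A : Type u) [CommRing P] [CommRing A] [Algebra P A] [Algebra.WeaklyEtale P A] :
    Algebra.WeaklyEtale P[X] A[X] := by
  let T := P[X] ⊗[P] A
  let e : T ≃ₐ[P[X]] A[X] := Algebra.IsPushout.equiv P P[X] A A[X]
  letI : Algebra T A[X] := e.toAlgHom.toRingHom.toAlgebra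
  haveI : IsScalarTower P[X] T A[X] := IsScalarTower.of_algebraMap_eq (R := P[X]) (S := T) (A := A[X]) fun x => (e.commutes x).symm
  haveI : Algebra.Etale T A[X] := Algebra.Etale.of_equiv (AlgEquiv.ofRingEquiv (f := e.toRingEquiv) fun _ => rfl)
  exact Algebra.WeaklyEtale.trans P[X] T A[X]

/-- The strictly henselian base below a strictly henselian relative line. -/
theorem exists_base (P : Type u) [CommRing P] (R : Type u) [CommRing R] [HenselianLocalRing R]
    [IsSepClosed (ResidueField R)] [Algebra P[X] R] [Algebra.WeaklyEtale P[X] R] :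
    ∃ (A : Type u) (_ : CommRing A) (_ : HenselianLocalRing A) (_ : IsSepClosed (ResidueField A)) (_ : Algebra A[X] R),
      Algebra.WeaklyEtale A[X] R ∧ algebraMap A[X] R X = algebraMap P[X] R X ∧
        ∀ a ∈ maximalIdeal A, algebraMap A[X] R (C a) ∈ maximalIdeal R := by
  let f₀ : P →+* R := (algebraMap P[X] R).comp C
  let 𝔭 : Ideal P := (maximalIdeal R).comap f₀
  let L := Localization.AtPrime 𝔭
  let φ : L →+* R := IsLocalization.lift (M := 𝔭.primeCompl) (g := f₀) fun y =>
    IsLocalRing.notMem_maximalIdeal.1 y.2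
  haveI : IsLocalHom φ := ⟨fun a ha => by
    obtain ⟨b, s, rfl⟩ := IsLocalization.exists_mk'_eq 𝔭.primeCompl a
    rw [IsLocalization.AtPrime.isUnit_mk'_iff L 𝔭]
    intro hb
    have h1 : φ (IsLocalization.mk' L b s) * f₀ s = f₀ b := by
      rw [← IsLocalization.lift_eq (M := 𝔭.primeCompl) (S := L) (g := f₀) (fun y => IsLocalRing.notMem_maximalIdeal.1 y.2) s,
        ← map_mul, IsLocalization.mk'_spec, IsLocalization.lift_eq]
    exact (IsLocalRing.mem_maximalIdeal _).1 (hb : f₀ b ∈ maximalIdeal R)
      (h1 ▸ ha.mul (IsLocalRing.notMem_maximalIdeal.1 s.2))⟩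
  obtain ⟨A, _, _, _, _, hA⟩ := Groth.Agent.S0537.result L
  haveI := hA
  haveI : HenselianLocalRing A := hA.henselian
  haveI : IsSepClosed (ResidueField A) := hA.isSepClosure.sep_closed
  haveI : Algebra.IsSeparable (ResidueField L) (ResidueField A) := hA.isSepClosure.separable
  letI : Algebra (ResidueField L) (ResidueField R) := (ResidueField.map φ).toAlgebra
  let τ := (IsSepClosed.lift (M := ResidueField R) (L := ResidueField A) (K := ResidueField L))
  obtain ⟨ψ, ⟨h1, h2⟩, -⟩ := hA.universal R φ τ.toRingHom τ.comp_algebraMap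
  have hψ : ∀ a ∈ maximalIdeal A, ψ a ∈ maximalIdeal R := fun a ha => by
    rw [← residue_eq_zero_iff, h2, (residue_eq_zero_iff a).2 ha, map_zero]
  letI : Algebra P A := ((algebraMap L A).comp (algebraMap P L)).toAlgebra
  haveI : IsScalarTower P L A := IsScalarTower.of_algebraMap_eq' rfl
  haveI : Algebra.WeaklyEtale P L := EtRpushStalkLib.weaklyEtale_localization 𝔭.primeCompl L
  haveI : Algebra.WeaklyEtale L A := Groth.Agent.WEtAmpLib.weaklyEtale_sh L
  haveI : Algebra.WeaklyEtale P A := Algebra.WeaklyEtale.trans P L A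
  haveI := weaklyEtale_polynomial P A
  letI : Algebra A[X] R := (Polynomial.eval₂RingHom ψ (algebraMap P[X] R X)).toAlgebra
  haveI : IsScalarTower P[X] A[X] R := IsScalarTower.of_algebraMap_eq' (Polynomial.ringHom_ext (fun a => by
    show algebraMap P[X] R (C a) = eval₂ ψ (algebraMap P[X] R X) ((C a).map (algebraMap P A))
    rw [Polynomial.map_C, eval₂_C]
    show f₀ a = ψ (algebraMap L A (algebraMap P L a))
    rw [← RingHom.comp_apply ψ, h1, IsLocalization.lift_eq]) (by
    show algebraMap P[X] R X = eval₂ ψ (algebraMap P[X] R X) (X.map (algebraMap P A))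
    rw [Polynomial.map_X, eval₂_X]))
  haveI : Algebra.WeaklyEtale A[X] R := Groth.Agent.S7127.result P[X] A[X] R
  exact ⟨A, inferInstance, inferInstance, inferInstance, inferInstance, inferInstance, eval₂_X _ _, fun a ha => by
    show eval₂ ψ _ (C a) ∈ _
    rw [eval₂_C]; exact hψ a ha⟩

/-- Cohomology of the punctured strictly local relative line. -/
theorem cohomology_punct (P : Type u) [CommRing P] (R : Type u) [CommRing R] [HenselianLocalRing R]
    [IsSepClosed (ResidueField R)] [Algebra P[X] R] [Algebra.WeaklyEtale P[X] R] (n : ℕ) (hn : IsUnit (n : R))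
    (ht : algebraMap P[X] R X ∈ maximalIdeal R) :
    Nonempty (EtCoh.H (Spec (CommRingCat.of (Localization.Away (algebraMap P[X] R X))))
        (cn (Spec (CommRingCat.of (Localization.Away (algebraMap P[X] R X)))) n) 1 ≃+ ZMod n) ∧
      ∀ q : ℕ, 2 ≤ q → Subsingleton (EtCoh.H (Spec (CommRingCat.of (Localization.Away (algebraMap P[X] R X))))
        (cn (Spec (CommRingCat.of (Localization.Away (algebraMap P[X] R X)))) n) q) := by
  obtain ⟨A, _, _, _, _, _, hX, hψ⟩ := exists_base P R
  have hB : (maximalIdeal R).comap (algebraMap A[X] R) = (maximalIdeal A).comap (evalRingHom (0 : A)) := by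
    haveI : ((maximalIdeal A).comap (evalRingHom (0 : A))).IsMaximal :=
      Ideal.comap_isMaximal_of_surjective _ fun a => ⟨C a, by simp⟩
    refine (Ideal.IsMaximal.eq_of_le inferInstance (Ideal.IsPrime.comap _).ne_top fun p hp => ?_).symm
    obtain ⟨q, hq⟩ : X ∣ p - C (p.eval 0) := X_dvd_iff.2 (by simp [coeff_zero_eq_eval_zero])
    show algebraMap A[X] R p ∈ maximalIdeal R
    rw [show p = C (p.eval 0) + X * q by rw [← hq]; ring, map_add, map_mul, hX]
    exact add_mem (hψ _ hp) (Ideal.mul_mem_right _ _ ht)
  have hnA : IsUnit (n : A) := by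
    by_contra h
    exact (IsLocalRing.mem_maximalIdeal _).1 (hψ _ ((IsLocalRing.mem_maximalIdeal _).2 h)) (by simpa using hn)
  have h := PunctHensLib.cohomology_punct A n hnA R hB
  rwa [hX] at h

theorem isReduced_of_weaklyEtale_field (K S : Type u) [Field K] [CommRing S] [Algebra K S] [Algebra.WeaklyEtale K S] :
    _root_.IsReduced S := Groth.Agent.S7128.result K S

theorem isReduced_quot_of_weaklyEtale (C S : Type u) [CommRing C] [CommRing S] [Algebra C S] [Algebra.WeaklyEtale C S]
    (I : Ideal C) [I.IsMaximal] : _root_.IsReduced (S ⧸ I.map (algebraMap C S)) := by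
  letI := Ideal.Quotient.field I
  haveI := isReduced_of_weaklyEtale_field (C ⧸ I) ((C ⧸ I) ⊗[C] S)
  let e := Algebra.TensorProduct.quotIdealMapEquivQuotTensor S I
  exact isReduced_of_injective e.toRingHom e.injective

/-- Powers of the parameter which are `n`-th powers. -/
theorem dvd_of_pow_eq (P : Type u) [CommRing P] (R : Type u) [CommRing R] [HenselianLocalRing R]
    [IsSepClosed (ResidueField R)] [Algebra P[X] R] [Algebra.WeaklyEtale P[X] R]
    (ht : algebraMap P[X] R X ∈ maximalIdeal R) (n : ℕ) (hn : 0 < n) (m : ℕ)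
    (f : Localization.Away (algebraMap P[X] R X))
    (hf : f ^ n = algebraMap R (Localization.Away (algebraMap P[X] R X)) (algebraMap P[X] R X) ^ m) : n ∣ m := by
  obtain ⟨A, _, _, _, _, _, hX, hψ⟩ := exists_base P R
  let κ := ResidueField A
  let R0 := κ[X] ⊗[A[X]] R
  let t0 : R0 := algebraMap κ[X] R0 X
  have ht0 : (Algebra.TensorProduct.includeRight : R →ₐ[A[X]] R0) (algebraMap P[X] R X) = t0 := by
    rw [← hX, AlgHom.commutes, IsScalarTower.algebraMap_apply A[X] κ[X] R0]
    exact congrArg (algebraMap κ[X] R0) (Polynomial.map_X _)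
  haveI : Algebra.WeaklyEtale κ[X] R0 := inferInstance
  have hreg : IsSMulRegular R0 (X : κ[X]) :=
    Module.Flat.isSMulRegular_of_nonZeroDivisors (R := κ[X]) (M := R0) (mem_nonZeroDivisors_of_ne_zero Polynomial.X_ne_zero)
  have hregular : ∀ a b : R0, t0 * a = t0 * b → a = b := fun a b h => hreg (by
    show (X : κ[X]) • a = (X : κ[X]) • b
    rwa [Algebra.smul_def, Algebra.smul_def])
  have hnu : ¬ IsUnit t0 := by
    let ρ : κ →+* ResidueField R := Ideal.Quotient.lift _ ((residue R).comp ((algebraMap A[X] R).comp C))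
      fun a ha => (residue_eq_zero_iff _).2 (hψ a ha)
    letI : Algebra A[X] (ResidueField R) := ((residue R).comp (algebraMap A[X] R)).toAlgebra
    let g1 : κ[X] →ₐ[A[X]] ResidueField R :=
      { toRingHom := Polynomial.eval₂RingHom ρ 0
        commutes' := fun p => by
          show ((Polynomial.eval₂RingHom ρ 0).comp (Polynomial.mapRingHom (residue A))) p =
            ((residue R).comp (algebraMap A[X] R)) p
          refine RingHom.congr_fun (Polynomial.ringHom_ext (fun a => ?_) ?_) p
          · simp [ρ]
            rfl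
          · simp
            rw [hX, eq_comm, residue_eq_zero_iff]; exact ht }
    let g2 : R →ₐ[A[X]] ResidueField R := { toRingHom := residue R, commutes' := fun _ => rfl }
    intro h
    have h' := h.map (Algebra.TensorProduct.productMap g1 g2)
    rw [← ht0] at h'
    refine h'.ne_zero ?_
    rw [Algebra.TensorProduct.includeRight_apply, Algebra.TensorProduct.productMap_right_apply]
    exact (residue_eq_zero_iff _).2 ht
  have hred : ∀ (a : R0) (k : ℕ), a ^ k ∈ Ideal.span {t0} → a ∈ Ideal.span {t0} := by
    let I : Ideal κ[X] := Ideal.span {X}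
    haveI : I.IsMaximal := PrincipalIdealRing.isMaximal_of_irreducible Polynomial.irreducible_X
    haveI : _root_.IsReduced (R0 ⧸ I.map (algebraMap κ[X] R0)) := isReduced_quot_of_weaklyEtale κ[X] R0 I
    intro a k h
    have hI : I.map (algebraMap κ[X] R0) = Ideal.span {t0} := by rw [Ideal.map_span, Set.image_singleton]
    rw [← hI] at h ⊢
    exact (Ideal.isRadical_iff_quotient_reduced _).2 inferInstance ⟨k, h⟩
  have key : ∀ N : ℕ, ∀ a : R0, a ^ n = t0 ^ N → n ∣ N := by
    intro N
    induction N using Nat.strong_induction_on with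
    | _ N ih =>
      intro a ha
      rcases Nat.eq_zero_or_pos N with rfl | hN
      · exact dvd_zero n
      obtain ⟨a₁, rfl⟩ := Ideal.mem_span_singleton.1 (hred a n (by
        rw [ha]; exact Ideal.pow_mem_of_mem _ (Ideal.mem_span_singleton_self t0) N hN))
      have hcancel : ∀ (i : ℕ) (x y : R0), t0 ^ i * x = t0 ^ i * y → x = y := by
        intro i
        induction i with
        | zero => intro x y h; simpa using h
        | succ i ih' => intro x y h; exact ih' x y (hregular _ _ (by rw [← mul_assoc, ← mul_assoc, ← pow_succ']; exact h))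
      rw [mul_pow] at ha
      rcases Nat.lt_or_ge N n with hlt | hge
      · refine absurd ?_ hnu
        have h1 : t0 ^ (n - N) * a₁ ^ n = 1 := hcancel N _ _ (by
          rw [← mul_assoc, ← pow_add, Nat.add_sub_cancel' hlt.le, ha, mul_one])
        exact (isUnit_pow_iff (by omega)).1 (IsUnit.of_mul_eq_one _ h1)
      · have h1 : a₁ ^ n = t0 ^ (N - n) := hcancel n _ _ (by rw [ha, ← pow_add, Nat.add_sub_cancel' hge])
        obtain ⟨q, hq⟩ := ih (N - n) (by omega) a₁ h1
        exact ⟨q + 1, by rw [mul_add, mul_one]; omega⟩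
  obtain ⟨⟨b, ⟨_, i, rfl⟩⟩, hb⟩ := IsLocalization.surj (Submonoid.powers (algebraMap P[X] R X)) f
  have h2 : algebraMap R (Localization.Away (algebraMap P[X] R X)) (b ^ n) =
      algebraMap R _ (algebraMap P[X] R X ^ (m + i * n)) := by
    rw [map_pow, ← hb, mul_pow, hf, map_pow, map_pow, pow_add, pow_mul]
  obtain ⟨⟨_, j, rfl⟩, hj⟩ := (IsLocalization.eq_iff_exists (Submonoid.powers (algebraMap P[X] R X)) _).1 h2
  have h3 := congrArg (Algebra.TensorProduct.includeRight : R →ₐ[A[X]] R0) hj
  simp only [map_mul, map_pow, ht0] at h3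
  have h4 : ∀ (i : ℕ) (x y : R0), t0 ^ i * x = t0 ^ i * y → x = y := by
    intro i
    induction i with
    | zero => intro x y h; simpa using h
    | succ i ih' => intro x y h; exact ih' x y (hregular _ _ (by rw [← mul_assoc, ← mul_assoc, ← pow_succ']; exact h))
  exact (Nat.dvd_add_left (dvd_mul_left n i)).1 (key _ _ (h4 j _ _ h3))

end EtSmPairLib
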