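import Groth.Agent.EtSmPairLib.Struct
import Groth.Agent.EtSmPairLib.Coeff
import Groth.Agent.EtPurEqLib.Zero
import Groth.Agent.EtPurEqLib.Restr
import Groth.Agent.EtBcQLib.Etale
import Groth.Agent.EtSliceLib.Basic

/-!
# Purity for smooth pairs
-/

set_option autoImplicit false
set_option linter.all false
set_option backward.isDefEq.respectTransparency false
set_option backward.isDefEq.respectTransparency.types false
set_option synthInstance.maxHeartbeats 400000
set_option maxHeartbeats 1600000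

universe u

open CategoryTheory CategoryTheory.Limits AlgebraicGeometry Opposite
open Groth.Agent Groth.Agent.EtShLib EtLocCohLib EtPurLib

noncomputable section

namespace EtSmPairLib

/-- Adapted coordinates persist along étale maps. -/
theorem SmChain.comp {R A A' : Type u} [CommRing R] [CommRing A] [CommRing A'] {c : ℕ} {y : Fin c → A}
    (h : SmChain R c A y) (φ : A →+* A') (hφ : φ.Etale) : SmChain R c A' (φ ∘ y) := by
  obtain ⟨m, ψ, hψ, hy⟩ := h
  exact ⟨m, φ.comp ψ, RingHom.Etale.stableUnderComposition ψ φ hψ hφ, fun i => congrArg φ (hy i)⟩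

/-- An affine étale neighbourhood on which a locally constant sheaf is constant. -/
theorem exists_cst_chart (B : Type u) [CommRing B] (n : ℕ) (G : EtCoh.Ab (Spec (CommRingCat.of B)))
    (hG : LC (fun M : AddCommGrpCat.{u + 1} => Finite M) G) (hGn : n • 𝟙 G = 0) (z : Spec (CommRingCat.of B)) :
    ∃ (A : Type u) (_ : CommRing A) (φ : B →+* A) (_ : φ.Etale) (z' : Spec (CommRingCat.of A))
      (M : AddCommGrpCat.{u + 1}) (_ : Finite M),
      (Spec.map (CommRingCat.ofHom φ)).base z' = z ∧ (∀ a : M, n • a = 0) ∧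
      Nonempty ((EtCoh.pull (Spec.map (CommRingCat.ofHom φ))).obj G ≅ (cK (Spec (CommRingCat.of A))).obj M) := by
  obtain ⟨W, w, M, η, hw, hM, hη⟩ := hG z
  haveI : AlgebraicGeometry.Etale W.hom := W.prop
  haveI : Finite M := hM
  obtain ⟨e⟩ := nonempty_iso_cK_of_isCst ((hη.pull (f := W.hom)).map (EtSliceLib.diag W))
  obtain ⟨_, ⟨V, hV, rfl⟩, hwV, -⟩ := W.left.isBasis_affineOpens.exists_subset_of_mem_open (Set.mem_univ w) isOpen_univ
  let A := Γ(W.left, V)
  let a : Spec (CommRingCat.of A) ⟶ Spec (CommRingCat.of B) := hV.fromSpec ≫ W.hom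
  let φ : B →+* A := (Spec.preimage a).hom
  have hφ : Spec.map (CommRingCat.ofHom φ) = a := Spec.map_preimage a
  haveI : AlgebraicGeometry.Etale (Spec.map (CommRingCat.ofHom φ)) := by rw [hφ]; infer_instance
  let z' : Spec (CommRingCat.of A) := hV.primeIdealOf ⟨w, hwV⟩
  have hz' : (Spec.map (CommRingCat.ofHom φ)).base z' = z := by
    rw [hφ]
    show W.hom.base (hV.fromSpec.base z') = z
    rw [show hV.fromSpec.base z' = w from hV.fromSpec_primeIdealOf ⟨w, hwV⟩]
    exact hw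
  let iso : (EtCoh.pull (Spec.map (CommRingCat.ofHom φ))).obj G ≅ (cK (Spec (CommRingCat.of A))).obj M :=
    (EtCore.pullCongr hφ).app G ≪≫ (EtCore.pullComp hV.fromSpec W.hom).app G ≪≫
      (EtCoh.pull hV.fromSpec).mapIso e.symm ≪≫ (EtCore.pullConstIso hV.fromSpec).app M
  haveI : Nonempty (Spec (CommRingCat.of A)) := ⟨z'⟩
  haveI : (EtCoh.pull (Spec.map (CommRingCat.ofHom φ))).Additive :=
    (EtCoh.pullPushAdj (Spec.map (CommRingCat.ofHom φ))).left_adjoint_additive
  exact ⟨A, inferInstance, φ, (HasRingHomProperty.Spec_iff (P := @AlgebraicGeometry.Etale)).1 inferInstance, z', M,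
    inferInstance, hz', nsmul_eq_zero_of_cK (nsmul_id_of_iso (EtCoh.pull (Spec.map (CommRingCat.ofHom φ))) iso hGn),
    ⟨iso⟩⟩

/-- Vanishing and the top sheaf with finite constant coefficients on a chart. -/
theorem chain_coeff (R : Type u) [CommRing R] (c : ℕ) (A : Type u) [CommRing A] (y : Fin c → A) (hy : SmChain R c A y)
    (n : ℕ) (hn : IsUnit (n : A)) (h0 : 0 < n) (ζ : A)
    (hζ : Polynomial.aeval ζ (Polynomial.cyclotomic n ℤ) = 0)
    {U : Scheme.{u}} (j : U ⟶ Spec (CommRingCat.of A)) [IsOpenImmersion j] [EtCoh.BCCont j]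
    (hj : Set.range j.base = (PrimeSpectrum.zeroLocus (Set.range y))ᶜ)
    (M : AddCommGrpCat.{u + 1}) [Finite M] (hM : ∀ a : M, n • a = 0) :
    (∀ q : ℕ, q ≠ 2 * c → IsZero ((EtDual.locCoh j q).obj ((cK (Spec (CommRingCat.of A))).obj M))) ∧
    Nonempty ((EtDual.locCoh j (2 * c)).obj ((cK (Spec (CommRingCat.of A))).obj M) ≅
      (EtCoh.push (Spec.map (CommRingCat.ofHom (Ideal.Quotient.mk (Ideal.span (Set.range y)))))).obj
        ((EtCoh.pull (Spec.map (CommRingCat.ofHom (Ideal.Quotient.mk (Ideal.span (Set.range y)))))).obj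
          ((cK (Spec (CommRingCat.of A))).obj M))) := by
  haveI := preservesFiniteLimits_secSupp j
  let s := Spec.map (CommRingCat.ofHom (Ideal.Quotient.mk (Ideal.span (Set.range y))))
  have hc : ∀ m : ℕ, m ∣ n → _ := fun m hm => chain_main R c A y hy m
    (isUnit_of_dvd_unit (by exact_mod_cast map_dvd (Nat.castRingHom A) hm) hn)
    (Nat.pos_of_dvd_of_pos hm h0) (ζ ^ (n / m)) (aeval_cyclotomic_pow h0 hζ hm) j hj
  haveI : ∀ q, (EtDual.locCoh j q).Additive := fun q => inferInstanceAs (((EtDual.secSupp j).rightDerived q).Additive)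
  haveI : (EtCoh.pull s).Additive := (EtCoh.pullPushAdj s).left_adjoint_additive
  haveI : (EtCoh.push s).Additive := { }
  refine ⟨fun q hq => isZero_of_cyclic (EtDual.locCoh j q) n M hM fun m hm => (hc m hm).1 q hq, ?_⟩
  refine nonempty_iso_of_cyclic (EtDual.locCoh j (2 * c)) (EtCoh.pull s ⋙ EtCoh.push s) n M hM fun m hm => ?_
  obtain ⟨e⟩ := (hc m hm).2
  exact ⟨e ≪≫ (EtCoh.push s).mapIso (EtCore.pullConst s (ZMod m)).symm⟩

/-- Purity for a smooth pair, étale locally. -/
theorem local_purity {X Y U S : Scheme.{u}} (f : X ⟶ S) (h : Y ⟶ S) (i : Y ⟶ X) (m c : ℕ)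
    [SmoothOfRelativeDimension (m + c) f] [SmoothOfRelativeDimension m h] [IsClosedImmersion i] (w : i ≫ f = h)
    (j : U ⟶ X) [IsOpenImmersion j] (hU : Set.range j.base = (Set.range i.base)ᶜ) [EtCoh.BCCont j] [EtCoh.BCCont i]
    (n : ℕ) (hn : IsUnit (n : Γ(X, ⊤))) (F : EtCoh.Ab X) (hF : EtCoh.IsFiniteLocallyConstant F)
    (hFn : EtCoh.KilledBy n F) (x : X) :
    ∃ (X' : Scheme.{u}) (g : X' ⟶ X) (_ : AlgebraicGeometry.Etale g) (x' : X'), g.base x' = x ∧
      (∀ q : ℕ, q ≠ 2 * c → IsZero ((EtCoh.pull g).obj ((EtDual.locCoh j q).obj F))) ∧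
      Nonempty ((EtCoh.pull g).obj ((EtDual.locCoh j (2 * c)).obj F) ≅
        (EtCoh.pull g).obj ((EtCoh.push i).obj ((EtCoh.pull i).obj F))) := by
  by_cases hx : x ∈ Set.range j.base
  · obtain ⟨u, rfl⟩ := hx
    haveI : AlgebraicGeometry.Etale j := inferInstance
    have hz : ∀ q : ℕ, IsZero ((EtCoh.pull j).obj ((EtDual.locCoh j q).obj F)) := fun q => by
      obtain ⟨e⟩ := nonempty_locCoh_pull j j (𝟙 U) (by ext z; simp) F q
      exact (EtPurEqLib.isZero_locCoh_surjective (𝟙 U) (fun z => ⟨z, rfl⟩) _ _).of_iso e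
    refine ⟨U, j, inferInstance, u, rfl, fun q _ => hz q, ⟨IsZero.iso (hz _) ?_⟩⟩
    haveI := jCont j
    refine IsZero.of_iso (EtPurEqLib.isZero_of_sections _ fun W => ?_) ((asIso (restrTheta j)).app _)
    haveI : IsEmpty ((EtCoh.bc i).obj ((EtShriek.compEtale j).obj W)).left := ⟨fun z => by
      let W' := (EtShriek.compEtale j).obj W
      have h : W'.hom.base ((pullback.fst W'.hom i).base z) = i.base ((pullback.snd W'.hom i).base z) :=
        congrArg (fun t : pullback W'.hom i ⟶ X => t.base z) pullback.condition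
      have h1 : W'.hom.base ((pullback.fst W'.hom i).base z) ∈ Set.range j.base :=
        ⟨W.hom.base ((pullback.fst W'.hom i).base z), rfl⟩
      exact hU.le h1 ⟨_, h.symm⟩⟩
    exact subsingleton_sect_of_isEmpty ((EtCoh.pull i).obj F) ((EtCoh.bc i).obj ((EtShriek.compEtale j).obj W))
  obtain ⟨y, rfl⟩ : x ∈ Set.range i.base := Classical.not_not.1 fun h => hx (hU.ge h)
  have h0 : 0 < n := by
    rcases Nat.eq_zero_or_pos n with rfl | hpos
    · exfalso
      rw [Nat.cast_zero, isUnit_zero_iff] at hn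
      exact one_ne_zero (α := X.residueField (i.base y)) (by simpa using (congrArg (X.Γevaluation (i.base y)) hn).symm)
    · exact hpos
  obtain ⟨R, B, _, _, yv, ζ, g, _, z, hgz, hch, hnB, hζ, t, ht⟩ := exists_pair_chart f h i m c w n hn h0 y
  haveI : (EtCoh.pull g).Additive := (EtCoh.pullPushAdj g).left_adjoint_additive
  obtain ⟨A, _, φ, hφ, z', M, _, hz', hM, ⟨eM⟩⟩ := exists_cst_chart B n ((EtCoh.pull g).obj F)
    ((isFLC_iff F).1 hF).pull (nsmul_id_of_iso (EtCoh.pull g) (Iso.refl _) (nsmul_id_eq_zero hFn)) z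
  let a := Spec.map (CommRingCat.ofHom φ)
  haveI : AlgebraicGeometry.Etale a := (HasRingHomProperty.Spec_iff (P := @AlgebraicGeometry.Etale)).2 hφ
  let g' := a ≫ g
  let eF : (EtCoh.pull g').obj F ≅ (cK (Spec (CommRingCat.of A))).obj M := (EtCore.pullComp a g).app F ≪≫ eM
  -- the closed subscheme on the chart
  let yA : Fin c → A := φ ∘ yv
  let s := Spec.map (CommRingCat.ofHom (Ideal.Quotient.mk (Ideal.span (Set.range yA))))
  haveI : IsClosedImmersion s := IsClosedImmersion.spec_of_surjective _ Ideal.Quotient.mk_surjective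
  obtain ⟨t', ht'⟩ : ∃ t', IsPullback t' s i g' := by
    have hspan : Ideal.span (Set.range yA) = (Ideal.span (Set.range yv)).map φ := by
      rw [Ideal.map_span, ← Set.range_comp]
    dsimp only [s]
    rw [hspan]
    exact ⟨_, (isPullback_SpecMap_of_isPushout _ _ _ _ (isPushout_quot φ _)).paste_horiz ht⟩
  have hzero : g'.base ⁻¹' Set.range i.base = PrimeSpectrum.zeroLocus (Set.range yA) := by
    rw [← Scheme.Pullback.range_snd i g', ← ht'.isoPullback_inv_snd, Scheme.Hom.comp_base, TopCat.coe_comp,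
      Set.range_comp, (show Function.Surjective ht'.isoPullback.inv.base from
      ht'.isoPullback.inv.surjective).range_eq, Set.image_univ]
    exact (range_comap_of_surjective _ _ Ideal.Quotient.mk_surjective).trans
      (by rw [Ideal.mk_ker, PrimeSpectrum.zeroLocus_span])
  let W : (Spec (CommRingCat.of A)).Opens := g' ⁻¹ᵁ j.opensRange
  have hW : Set.range W.ι.base = g'.base ⁻¹' Set.range j.base := Scheme.Opens.range_ι W
  have hW' : Set.range W.ι.base = (PrimeSpectrum.zeroLocus (Set.range yA))ᶜ := by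
    rw [hW, hU, Set.preimage_compl, hzero]
  obtain ⟨hvan, ⟨e1⟩⟩ := chain_coeff R c A yA (hch.comp φ hφ) n (by simpa using hnB.map φ) h0 (φ ζ)
    (MuConstLib.aeval_map φ hζ) W.ι hW' M hM
  refine ⟨_, g', inferInstance, z', ?_, fun q hq => ?_, ?_⟩
  · show g.base (a.base z') = _
    rw [hz']
    exact hgz
  · obtain ⟨e⟩ := nonempty_locCoh_pull j g' W.ι hW F q
    exact ((hvan q hq).of_iso ((EtDual.locCoh W.ι q).mapIso eF)).of_iso e
  · obtain ⟨e2⟩ := nonempty_locCoh_pull j g' W.ι hW F (2 * c)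
    haveI : IsIso (EtCoh.baseChange0 i g' s t' ht'.w ((EtCoh.pull i).obj F)) :=
      EtBcQLib.isIso_bc0_etale i g' s t' ht' _
    let e3 : (EtCoh.pull g').obj ((EtCoh.push i).obj ((EtCoh.pull i).obj F)) ≅
        (EtCoh.push s).obj ((EtCoh.pull s).obj ((cK (Spec (CommRingCat.of A))).obj M)) :=
      asIso (EtCoh.baseChange0 i g' s t' ht'.w ((EtCoh.pull i).obj F)) ≪≫
        (EtCoh.push s).mapIso (((EtCore.pullComp t' i).app F).symm ≪≫ (EtCore.pullCongr ht'.w).app F ≪≫
          (EtCore.pullComp s g').app F ≪≫ (EtCoh.pull s).mapIso eF)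
    exact ⟨e2 ≪≫ (EtDual.locCoh W.ι (2 * c)).mapIso eF ≪≫ e1 ≪≫ e3.symm⟩

/-- Purity for a smooth pair. -/
theorem purity {X Y U S : Scheme.{u}} (f : X ⟶ S) (h : Y ⟶ S) (i : Y ⟶ X) (m c : ℕ)
    [SmoothOfRelativeDimension (m + c) f] [SmoothOfRelativeDimension m h] [IsClosedImmersion i] (w : i ≫ f = h)
    (j : U ⟶ X) [IsOpenImmersion j] (hU : Set.range j.base = (Set.range i.base)ᶜ) [EtCoh.BCCont j] [EtCoh.BCCont i]
    (n : ℕ) (hn : IsUnit (n : Γ(X, ⊤))) (F : EtCoh.Ab X) (hF : EtCoh.IsFiniteLocallyConstant F)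
    (hFn : EtCoh.KilledBy n F) :
    (∀ q : ℕ, q ≠ 2 * c → IsZero ((EtDual.locCoh j q).obj F)) ∧
      ∃ (ι : Type u) (V : ι → X.Etale), EtCoh.Covers V ∧ ∀ a : ι,
        Nonempty (EtCoh.restr ((EtDual.locCoh j (2 * c)).obj F) (V a) ≅
          EtCoh.restr ((EtCoh.push i).obj ((EtCoh.pull i).obj F)) (V a)) := by
  refine ⟨fun q hq => EtPurEqLib.isZero_of_locally _ fun x => ?_, ?_⟩
  · obtain ⟨X', g, hg, x', hx', hv, -⟩ := local_purity f h i m c w j hU n hn F hF hFn x
    exact ⟨X', g, hg, x', hx', hv q hq⟩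
  · choose X' g hg x' hx' hv he using local_purity f h i m c w j hU n hn F hF hFn
    haveI := hg
    refine ⟨X, fun x => Scheme.Etale.mk (g x), fun x => ⟨x, x' x, hx' x⟩, fun x => ?_⟩
    haveI : AlgebraicGeometry.Etale (Scheme.Etale.mk (g x)).hom := hg x
    exact EtPurEqLib.nonempty_restr_iso (Scheme.Etale.mk (g x)) (he x)

end EtSmPairLib
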