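import Groth.Agent.EtSmPairLib.Local
import Groth.Agent.EtPurLib.Stalks
import Groth.Agent.EtLocCohLib.Depth
import Groth.Agent.EtPnCohLib.Compact
import Groth.Agent.S3100
import Groth.Agent.S0620

/-!
# The smooth divisor `t = 0` in an étale chart of the relative line
-/

set_option autoImplicit false
set_option linter.all false
set_option backward.isDefEq.respectTransparency false
set_option backward.isDefEq.respectTransparency.types false
set_option synthInstance.maxHeartbeats 400000
set_option maxHeartbeats 1600000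

universe u

open CategoryTheory CategoryTheory.Limits AlgebraicGeometry Opposite Polynomial IsLocalRing
open Groth.Agent Groth.Agent.EtShLib EtPurLib

noncomputable section

namespace EtSmPairLib

variable (P : Type u) [CommRing P] (A : Type u) [CommRing A] [Algebra P[X] A] [Algebra.Etale P[X] A]

/-- The parameter. -/
abbrev par : A := algebraMap P[X] A X

/-- The complement of the divisor. -/
abbrev VD : (Spec (CommRingCat.of A)).Opens := PrimeSpectrum.basicOpen (par P A)

omit [Algebra.Etale P[X] A] in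
/-- The complement is quasi-compact. -/
instance quasiCompact_ι : QuasiCompact (VD P A).ι := by
  haveI : IsAffine (VD P A : Scheme.{u}) := IsAffineOpen.Spec_basicOpen (R := CommRingCat.of A) (par P A)
  exact (HasAffineProperty.iff_of_isAffine (P := @QuasiCompact)).2 inferInstance

/-- The chart at a strict henselisation. -/
theorem exists_alg (x : Spec (CommRingCat.of A)) (R : Type u) [CommRing R] [IsLocalRing R]
    [Algebra ((Spec (CommRingCat.of A)).presheaf.stalk x) R]
    [IsLocalHom (algebraMap ((Spec (CommRingCat.of A)).presheaf.stalk x) R)]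
    [Hensel.IsStrictHenselization ((Spec (CommRingCat.of A)).presheaf.stalk x) R] :
    ∃ (ρ : A →+* R) (_ : Algebra P[X] R), algebraMap P[X] R = ρ.comp (algebraMap P[X] A) ∧
      Algebra.WeaklyEtale P[X] R ∧ Spec.map (CommRingCat.ofHom ρ) = Hens2.specOf (Spec (CommRingCat.of A)) x R ∧
      (∀ a, a ∈ x.asIdeal ↔ ρ a ∈ maximalIdeal R) := by
  let L := (Spec (CommRingCat.of A)).presheaf.stalk x
  letI : Algebra A L := StructureSheaf.stalkAlgebra A x
  haveI : IsLocalization.AtPrime L x.asIdeal :=
    inferInstanceAs (IsLocalization.AtPrime ((Spec.structureSheaf A).presheaf.stalk x) x.asIdeal)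
  letI : Algebra A R := ((algebraMap L R).comp (algebraMap A L)).toAlgebra
  haveI : IsScalarTower A L R := IsScalarTower.of_algebraMap_eq' rfl
  haveI : Algebra.WeaklyEtale A L := EtRpushStalkLib.weaklyEtale_localization x.asIdeal.primeCompl L
  haveI : Algebra.WeaklyEtale L R := Groth.Agent.WEtAmpLib.weaklyEtale_sh L
  haveI : Algebra.WeaklyEtale A R := Algebra.WeaklyEtale.trans A L R
  letI : Algebra P[X] R := ((algebraMap A R).comp (algebraMap P[X] A)).toAlgebra
  haveI : IsScalarTower P[X] A R := IsScalarTower.of_algebraMap_eq' rfl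
  refine ⟨algebraMap A R, inferInstance, rfl, Algebra.WeaklyEtale.trans P[X] A R, ?_, fun a => ?_⟩
  · show Spec.map (CommRingCat.ofHom ((algebraMap L R).comp (algebraMap A L))) = _
    rw [CommRingCat.ofHom_comp, Spec.map_comp]
    refine congrArg (Spec.map (CommRingCat.ofHom (algebraMap L R)) ≫ ·) ?_
    rw [Spec.fromSpecStalk_eq']
    rfl
  · rw [← IsLocalization.AtPrime.to_map_mem_maximal_iff L x.asIdeal a]
    constructor
    · intro h hu
      exact (IsLocalRing.mem_maximalIdeal _).1 h (isUnit_of_map_unit (algebraMap L R) _ hu)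
    · intro h hu
      exact (IsLocalRing.mem_maximalIdeal _).1 h (hu.map (algebraMap L R))

/-- The fibre of the complement over a strict henselisation. -/
theorem exists_fibre_iso {R : Type u} [CommRing R] (ρ : A →+* R) :
    ∃ e : Spec (CommRingCat.of (Localization.Away (ρ (par P A)))) ≅ pullback (VD P A).ι (Spec.map (CommRingCat.ofHom ρ)),
      e.hom ≫ pullback.snd (VD P A).ι (Spec.map (CommRingCat.ofHom ρ)) =
        Spec.map (CommRingCat.ofHom (algebraMap R (Localization.Away (ρ (par P A))))) := by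
  let g := Spec.map (CommRingCat.ofHom ρ)
  let b := pullback.snd (VD P A).ι g
  let c := Spec.map (CommRingCat.ofHom (algebraMap R (Localization.Away (ρ (par P A)))))
  haveI : IsOpenImmersion c := IsOpenImmersion.of_isLocalization (ρ (par P A))
  haveI : IsOpenImmersion b := MorphismProperty.pullback_snd _ _ inferInstance
  have hr : Set.range c.base = Set.range b.base := by
    rw [IsOpenImmersion.range_pullbackSnd (VD P A).ι g,
      show Set.range c.base = _ from PrimeSpectrum.localization_away_comap_range _ (ρ (par P A)), Scheme.Opens.opensRange_ι]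
    rfl
  exact ⟨IsOpenImmersion.isoOfRangeEq c b hr, IsOpenImmersion.isoOfRangeEq_hom_fac c b hr⟩

/-- The point of the complement on every fibre. -/
theorem isIso_unit_const [EtCoh.BCCont (VD P A).ι] (n : ℕ) :
    IsIso (EtDual.unitApp (VD P A).ι (EtCoh.const (Spec (CommRingCat.of A)) (ZMod n))) := by
  let φ : P →+* A := (algebraMap P[X] A).comp C
  let f : Spec (CommRingCat.of A) ⟶ Spec (CommRingCat.of P) := Spec.map (CommRingCat.ofHom φ)
  letI : Algebra P A := φ.toAlgebra
  haveI : IsScalarTower P P[X] A := IsScalarTower.of_algebraMap_eq' rfl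
  haveI : Algebra.Smooth P P[X] := ⟨inferInstance, inferInstance⟩
  haveI : Algebra.Smooth P A := Algebra.Smooth.comp P P[X] A
  haveI : Smooth f := (HasRingHomProperty.Spec_iff (P := @Smooth)).2 (RingHom.smooth_algebraMap.2 inferInstance)
  have hd : ∀ x : Spec (CommRingCat.of A), x ∈ closure (Set.range (VD P A).ι.base ∩ {y | f.base y = f.base x}) := by
    intro x
    by_cases hx : par P A ∈ x.asIdeal
    swap
    · exact subset_closure ⟨(Scheme.Opens.range_ι _).ge hx, rfl⟩
    let 𝔭 : Ideal P := x.asIdeal.comap φ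
    let q0 : Ideal P[X] := 𝔭.map C
    haveI : q0.IsPrime := Ideal.isPrime_map_C_of_isPrime
    haveI : Algebra.HasGoingDown P[X] A := inferInstance
    have hle : q0 ≤ x.asIdeal.comap (algebraMap P[X] A) := Ideal.map_le_iff_le_comap.2 le_rfl
    haveI : x.asIdeal.LiesOver (x.asIdeal.comap (algebraMap P[X] A)) := ⟨rfl⟩
    obtain ⟨Q, hQle, hQ, hQo⟩ := Ideal.exists_ideal_le_liesOver_of_le x.asIdeal
      (q := x.asIdeal.comap (algebraMap P[X] A)) (p := q0) hle
    let y : Spec (CommRingCat.of A) := ⟨Q, hQ⟩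
    have hyx : y ⤳ x := (PrimeSpectrum.le_iff_specializes y x).1 hQle
    refine closure_mono ?_ (specializes_iff_mem_closure.1 hyx)
    rintro _ rfl
    refine ⟨(Scheme.Opens.range_ι _).ge ?_, PrimeSpectrum.ext ?_⟩
    · show par P A ∉ Q
      intro h
      have h1 : (X : P[X]) ∈ q0 := by rw [hQo.over]; exact h
      exact (Ideal.ne_top_iff_one 𝔭).1 (Ideal.IsPrime.comap φ).ne_top
        (by simpa [coeff_X] using (Ideal.mem_map_C_iff.1 h1) 1)
    · show Q.comap φ = 𝔭
      rw [← Ideal.comap_comap, show Q.comap (algebraMap P[X] A) = q0 from hQo.over.symm]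
      ext a
      rw [Ideal.mem_comap, Ideal.mem_map_C_iff]
      constructor
      · intro h
        simpa using h 0
      · intro h k
        rcases k with _ | k
        · simpa using h
        · simp
  haveI h0 := Groth.Agent.S3100.result f (VD P A).ι hd (EtCoh.const (Spec (CommRingCat.of P)) (ZMod n))
  have h2 := (EtCoh.pullPushAdj (VD P A).ι).unit.naturality (EtCore.pullConst f (ZMod n)).hom
  haveI : IsIso ((𝟭 (EtCoh.Ab _)).map (EtCore.pullConst f (ZMod n)).hom ≫
      (EtCoh.pullPushAdj (VD P A).ι).unit.app (EtCoh.const (Spec (CommRingCat.of A)) (ZMod n))) := by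
    rw [h2]; infer_instance
  haveI : IsIso ((𝟭 (EtCoh.Ab _)).map (EtCore.pullConst f (ZMod n)).hom) :=
    inferInstanceAs (IsIso (EtCore.pullConst f (ZMod n)).hom)
  exact IsIso.of_isIso_comp_left ((𝟭 (EtCoh.Ab _)).map (EtCore.pullConst f (ZMod n)).hom) _

/-- Vanishing of the higher direct images. -/
theorem isZero_Rpush (n : ℕ) (hn : IsUnit (n : A)) (q : ℕ) (hq : 2 ≤ q) :
    IsZero ((EtCoh.Rpush (VD P A).ι q).obj ((EtCoh.pull (VD P A).ι).obj (EtCoh.const (Spec (CommRingCat.of A)) (ZMod n)))) := by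
  refine isZero_Rpush_of_strict (VD P A).ι _ q fun x R _ _ _ _ _ _ _ hclosed => subsingleton_H_fibre_const (VD P A).ι _ n q ?_
  by_cases hx : x ∈ Set.range (VD P A).ι.base
  · exact subsingleton_H_over_open (VD P A).ι x R _ hclosed hx n q (by omega)
  obtain ⟨ρ, _, hρ, _, hspec, hmem⟩ := exists_alg P A x R
  have hxt : ρ (par P A) ∈ maximalIdeal R := (hmem _).1 (by
    by_contra h
    exact hx ((Scheme.Opens.range_ι _).ge h))
  have hu : IsUnit (n : R) := by simpa using hn.map ρ
  have hX : algebraMap P[X] R X = ρ (par P A) := RingHom.congr_fun hρ X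
  obtain ⟨-, h⟩ := cohomology_punct P R n hu (hX ▸ hxt)
  rw [hX] at h
  rw [← hspec]
  obtain ⟨e, -⟩ := exists_fibre_iso P A ρ
  exact subsingleton_H_of_isIso e.inv (h q hq)

/-- The first cohomology of the punctured line, with a named parameter. -/
theorem nonempty_H_punct_one (P : Type u) [CommRing P] (R : Type u) [CommRing R] [HenselianLocalRing R]
    [IsSepClosed (IsLocalRing.ResidueField R)] [Algebra P[X] R] [Algebra.WeaklyEtale P[X] R] (n : ℕ) (hn : IsUnit (n : R))
    (ht : algebraMap P[X] R X ∈ maximalIdeal R) (t : R) (hX : algebraMap P[X] R X = t) :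
    Nonempty (EtCoh.H (Spec (CommRingCat.of (Localization.Away t)))
      (EtCoh.const (Spec (CommRingCat.of (Localization.Away t))) (ZMod n)) 1 ≃+ ZMod n) := by
  subst hX
  exact (cohomology_punct P R n hn ht).1

/-- Congruence and transport along an isomorphism in cohomology. -/
theorem nonempty_H_transport {A B : Scheme.{u}} (a : A ⟶ B) [IsIso a] (n q : ℕ) {M : Type} [AddCommGroup M]
    (e : EtCoh.H A (EtCoh.const A (ZMod n)) q ≃+ M) : Nonempty (EtCoh.H B (EtCoh.const B (ZMod n)) q ≃+ M) := by
  obtain ⟨e4⟩ := EtPnCohLib.nonempty_H_pull_iso a (EtCoh.const B (ZMod n)) q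
  obtain ⟨e5⟩ := EtPnCohLib.nonempty_H_congr (EtCore.pullConst a (ZMod n)) q
  exact ⟨(e4.symm.trans e5).trans e⟩

/-- The first cohomology of the fibre of the complement over a strict henselisation. -/
theorem nonempty_H_fibre_one (n : ℕ) (hn : IsUnit (n : A)) (R : Type u) [CommRing R] [HenselianLocalRing R]
    [IsSepClosed (IsLocalRing.ResidueField R)] [Algebra P[X] R] [Algebra.WeaklyEtale P[X] R] (ρ : A →+* R)
    (hρ : algebraMap P[X] R = ρ.comp (algebraMap P[X] A)) (ht : ρ (par P A) ∈ maximalIdeal R)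
    (g : Spec (CommRingCat.of R) ⟶ Spec (CommRingCat.of A)) (hg : Spec.map (CommRingCat.ofHom ρ) = g)
    (F : EtCoh.Ab (VD P A : Scheme.{u})) (eF : F ≅ EtCoh.const (VD P A : Scheme.{u}) (ZMod n)) :
    Nonempty (EtCoh.H (pullback (VD P A).ι g) ((EtCoh.pull (pullback.fst (VD P A).ι g)).obj F) 1 ≃+ ZMod n) := by
  subst hg
  have hu : IsUnit (n : R) := by simpa using hn.map ρ
  have hX : algebraMap P[X] R X = ρ (par P A) := RingHom.congr_fun hρ X
  obtain ⟨e1⟩ := nonempty_H_punct_one P R n hu (hX ▸ ht) (ρ (par P A)) hX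
  let g := pullback.fst (VD P A).ι (Spec.map (CommRingCat.ofHom ρ))
  obtain ⟨e2⟩ := EtPnCohLib.nonempty_H_congr ((EtCoh.pull g).mapIso eF ≪≫ EtCore.pullConst g (ZMod n)) 1
  obtain ⟨e3, -⟩ := exists_fibre_iso P A ρ
  obtain ⟨e6⟩ := nonempty_H_transport e3.hom n 1 e1
  exact ⟨e2.trans e6⟩

/-- An isomorphism with a cohomology group as an additive equivalence. -/
theorem nonempty_addEquiv_H {M : AddCommGrpCat.{u + 1}} {Z : Scheme.{u}} {G : EtCoh.Ab Z} {q : ℕ}
    (e : M ≅ AddCommGrpCat.of (EtCoh.H Z G q)) : Nonempty (ToType M ≃+ EtCoh.H Z G q) :=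
  ⟨e.addCommGroupIsoToAddEquiv⟩

/-- The stalk of the first direct image. -/
theorem nonempty_stalk_one (n : ℕ) (hn : IsUnit (n : A)) {Ω : Type u} [Field Ω] [IsSepClosed Ω]
    (ξ : Spec (CommRingCat.of Ω) ⟶ Spec (CommRingCat.of A)) (hξ : par P A ∈ (ξ.base default).asIdeal)
    (F : EtCoh.Ab (VD P A : Scheme.{u})) (eF : F ≅ EtCoh.const (VD P A : Scheme.{u}) (ZMod n)) :
    Nonempty (ToType ((stk (A := AddCommGrpCat.{u + 1}) ξ).obj ((EtCoh.Rpush (VD P A).ι 1).obj F)) ≃+ ZMod n) := by
  let X₀ := Spec (CommRingCat.of A)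
  let x := ξ.base default
  obtain ⟨R, _, _, _, _, hR⟩ := Groth.Agent.S0537.result (X₀.presheaf.stalk x)
  haveI := hR
  haveI : HenselianLocalRing R := Hensel.IsStrictHenselization.henselian (R := X₀.presheaf.stalk x)
  haveI : IsSepClosed (IsLocalRing.ResidueField R) :=
    (Hensel.IsStrictHenselization.isSepClosure (R := X₀.presheaf.stalk x) (S := R)).sep_closed
  obtain ⟨e⟩ := Groth.Agent.S0620.result (VD P A).ι F x R 1
  have hclosed : (Hens2.specOf X₀ x R).base (IsLocalRing.closedPoint R) = x := by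
    refine Eq.trans (congrArg (X₀.fromSpecStalk x).base ?_) X₀.fromSpecStalk_closedPoint
    exact IsLocalRing.comap_closedPoint (algebraMap (X₀.presheaf.stalk x) R)
  have hpt : (Hens2.geomPt X₀ x R).base default = x := by
    refine Eq.trans (congrArg (Hens2.specOf X₀ x R).base ?_) hclosed
    let d : PrimeSpectrum (IsLocalRing.ResidueField R) :=
      (default : Spec (CommRingCat.of (IsLocalRing.ResidueField R)))
    show PrimeSpectrum.comap (IsLocalRing.residue R) d = IsLocalRing.closedPoint R
    exact IsLocalRing.PrimeSpectrum.comap_residue R d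
  obtain ⟨e'⟩ := nonempty_stk_iso_of_eq (A := AddCommGrpCat.{u + 1}) (ξ := Hens2.geomPt X₀ x R) (ξ' := ξ) hpt.symm
  obtain ⟨ρ, _, hρ, _, hspec, hmem⟩ := exists_alg P A x R
  obtain ⟨e6⟩ := nonempty_H_fibre_one P A n hn R ρ hρ ((hmem _).1 hξ) (Hens2.specOf X₀ x R) hspec F eF
  obtain ⟨e7⟩ := nonempty_addEquiv_H ((e'.app _).symm ≪≫ e)
  exact ⟨e7.trans e6⟩

end EtSmPairLib
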