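import Groth.Agent.EtSmPairLib.Chain
import Groth.Agent.EtPurEqLib.Local
import Groth.Agent.Unram17Lib.EtaleChart
import Groth.Agent.FibDimLib.Smooth
import Mathlib.AlgebraicGeometry.OpenImmersion

/-!
# Étale-local structure of a smooth pair
-/

set_option autoImplicit false
set_option linter.all false
set_option backward.isDefEq.respectTransparency false
set_option backward.isDefEq.respectTransparency.types false
set_option synthInstance.maxHeartbeats 400000
set_option maxHeartbeats 1600000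

universe u

open CategoryTheory CategoryTheory.Limits AlgebraicGeometry Opposite
open Groth.Agent
open scoped TensorProduct

noncomputable section

namespace EtSmPairLib

open MvPolynomial in
/-- The quotient chart of an adapted chart. -/
theorem exists_quot_chart {A D : Type u} [CommRing A] [CommRing D] (r m : ℕ)
    (φ : MvPolynomial (Fin m ⊕ Fin r) A →+* D) (hφ : φ.Etale) :
    ∃ ψ : MvPolynomial (Fin m) A →+* D ⧸ Ideal.span (Set.range fun j => φ (X (Sum.inr j))), ψ.Etale ∧
      ψ.comp C = (Ideal.Quotient.mk (Ideal.span (Set.range fun j => φ (X (Sum.inr j))))).comp (φ.comp C) := by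
  let P := MvPolynomial (Fin m ⊕ Fin r) A
  let I : Ideal P := Ideal.span (Set.range fun j => X (Sum.inr j))
  have hI : I.map φ = Ideal.span (Set.range fun j => φ (X (Sum.inr j))) := by
    rw [Ideal.map_span, ← Set.range_comp]
    rfl
  let γ := Ideal.quotientMap _ φ (Ideal.map_le_iff_le_comap.1 hI.le)
  let p : P →ₐ[A] MvPolynomial (Fin m) A := aeval (Sum.elim X 0)
  let a : MvPolynomial (Fin m) A →+* P ⧸ I := (Ideal.Quotient.mk I).comp (rename Sum.inl).toRingHom
  let b : P ⧸ I →+* MvPolynomial (Fin m) A := Ideal.Quotient.lift I p.toRingHom fun x hx => by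
    refine (show I ≤ RingHom.ker p.toRingHom from Ideal.span_le.2 ?_) hx
    rintro _ ⟨j, rfl⟩
    show p (X (Sum.inr j)) = 0
    exact aeval_X _ _
  have h1 : b.comp a = RingHom.id _ := by
    refine ringHom_ext (fun t => ?_) (fun t => ?_)
    · show p (rename Sum.inl (C t)) = C t
      rw [rename_C]; exact aeval_C _ t
    · show p (rename Sum.inl (X t)) = X t
      rw [rename_X]; exact aeval_X _ _
  have h2 : a.comp b = RingHom.id _ := by
    refine Ideal.Quotient.ringHom_ext (ringHom_ext (fun t => ?_) (fun t => ?_))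
    · show Ideal.Quotient.mk I (rename Sum.inl (p (C t))) = Ideal.Quotient.mk I (C t)
      rw [show p (C t) = C t from aeval_C _ t, rename_C]
    · show Ideal.Quotient.mk I (rename Sum.inl (p (X t))) = Ideal.Quotient.mk I (X t)
      rcases t with t | t
      · rw [show p (X (Sum.inl t)) = X t from aeval_X _ _, rename_X]
      · rw [Ideal.Quotient.eq_zero_iff_mem.2 (show X (Sum.inr t) ∈ I from Ideal.subset_span ⟨t, rfl⟩)]
        rw [show p (X (Sum.inr t)) = 0 from aeval_X _ _, map_zero, map_zero]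
  let e : MvPolynomial (Fin m) A ≃+* P ⧸ I := RingEquiv.ofRingHom a b h2 h1
  refine ⟨γ.comp e.toRingHom, etale_quotientMap_comp φ hφ I _ hI e, ?_⟩
  refine RingHom.ext fun t => ?_
  show γ (Ideal.Quotient.mk I (rename Sum.inl (C t))) = _
  rw [rename_C]
  rfl

open MvPolynomial in
/-- Étale charts over affine space indexed by a sum. -/
theorem fibreDimAt_sum {X Y : Scheme.{u}} (f : X ⟶ Y) {U : Y.Opens} (hU : IsAffineOpen U) {V : X.Opens}
    (hV : IsAffineOpen V) (e : V ≤ f ⁻¹ᵁ U) {m r : ℕ}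
    (g : MvPolynomial (Fin m ⊕ Fin r) Γ(Y, U) →+* Γ(X, V)) (hg : g.comp C = (f.appLE U V e).hom)
    (het : g.Etale) (x : X) (hx : x ∈ V) : FlatMor.fibreDimAt f x = (m + r : ℕ) := by
  let σ := (renameEquiv Γ(Y, U) (finSumFinEquiv (m := m) (n := r)).symm).toRingEquiv
  refine FibDimLib.fibreDimAt_chart f hU hV e (g.comp σ.toRingHom) ?_ (RingHom.Etale.respectsIso.2 g σ het) x hx
  refine RingHom.ext fun t => ?_
  show g (rename _ (C t)) = _
  rw [rename_C]
  exact RingHom.congr_fun hg t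

/-- The affine chart of a closed subscheme. -/
theorem exists_isPullback_chart {X Y : Scheme.{u}} (i : Y ⟶ X) {V : X.Opens} (hV : IsAffineOpen V)
    (hiV : IsAffineOpen (i ⁻¹ᵁ V)) (I : Ideal Γ(X, V)) (hsurj : Function.Surjective (i.app V))
    (hI : RingHom.ker (i.app V).hom = I) :
    ∃ t : Spec (CommRingCat.of (Γ(X, V) ⧸ I)) ⟶ Y,
      IsPullback t (Spec.map (CommRingCat.ofHom (Ideal.Quotient.mk I))) i hV.fromSpec := by
  subst hI
  let ε := RingHom.quotientKerEquivOfSurjective (f := (i.app V).hom) hsurj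
  haveI : IsIso (CommRingCat.ofHom ε.toRingHom) := (ConcreteCategory.isIso_iff_bijective _).2 ε.bijective
  let e : Spec Γ(Y, i ⁻¹ᵁ V) ⟶ Spec (CommRingCat.of (Γ(X, V) ⧸ RingHom.ker (i.app V).hom)) :=
    Spec.map (CommRingCat.ofHom ε.toRingHom)
  have hfac : e ≫ Spec.map (CommRingCat.ofHom (Ideal.Quotient.mk _)) = Spec.map (i.app V) := by
    show Spec.map _ ≫ Spec.map _ = _
    rw [← Spec.map_comp]
    exact congrArg Spec.map (by ext a; rfl)
  have hw : hiV.fromSpec ≫ i = Spec.map (i.app V) ≫ hV.fromSpec := by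
    rw [Scheme.Hom.app_eq_appLE]
    exact (IsAffineOpen.SpecMap_appLE_fromSpec i hV hiV le_rfl).symm
  have hp : IsPullback hiV.fromSpec (Spec.map (i.app V)) i hV.fromSpec :=
    (IsOpenImmersion.isPullback (Spec.map (i.app V)) hiV.fromSpec hV.fromSpec i hw (by
      rw [hV.opensRange_fromSpec, hiV.opensRange_fromSpec])).flip
  refine ⟨inv e ≫ hiV.fromSpec, hp.of_iso (asIso e) (Iso.refl _) (Iso.refl _) (Iso.refl _) ?_ ?_ ?_ ?_⟩
  · simp
  · simp [hfac]
  · simp
  · simp

/-- The étale-local structure of a smooth pair at a point of the subscheme. -/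
theorem exists_pair_chart {X Y S : Scheme.{u}} (f : X ⟶ S) (h : Y ⟶ S) (i : Y ⟶ X) (m c : ℕ)
    [SmoothOfRelativeDimension (m + c) f] [SmoothOfRelativeDimension m h] [IsClosedImmersion i] (w : i ≫ f = h)
    (n : ℕ) (hn : IsUnit (n : Γ(X, ⊤))) (h0 : 0 < n) (y : Y) :
    ∃ (R A : Type u) (_ : CommRing R) (_ : CommRing A) (yv : Fin c → A) (ζ : A)
      (g : Spec (CommRingCat.of A) ⟶ X) (_ : AlgebraicGeometry.Etale g) (z : Spec (CommRingCat.of A)),
      g.base z = i.base y ∧ SmChain R c A yv ∧ IsUnit (n : A) ∧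
      Polynomial.aeval ζ (Polynomial.cyclotomic n ℤ) = 0 ∧
      ∃ t : Spec (CommRingCat.of (A ⧸ Ideal.span (Set.range yv))) ⟶ Y,
        IsPullback t (Spec.map (CommRingCat.ofHom (Ideal.Quotient.mk (Ideal.span (Set.range yv))))) i g := by
  subst w
  haveI := SmoothOfRelativeDimension.smooth (m + c) f
  haveI := SmoothOfRelativeDimension.smooth m (i ≫ f)
  obtain ⟨_, ⟨W, hW, rfl⟩, hyW, -⟩ :=
    S.isBasis_affineOpens.exists_subset_of_mem_open (Set.mem_univ (f.base (i.base y))) isOpen_univ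
  obtain ⟨_, ⟨U, hU, rfl⟩, hyU, hUW⟩ :=
    X.isBasis_affineOpens.exists_subset_of_mem_open (show i.base y ∈ (f ⁻¹ᵁ W : X.Opens) from hyW) (f ⁻¹ᵁ W).2
  obtain ⟨V, hV, hyV, hVU, r, m', v, het, hker, hker', hiV, hsurjV⟩ :=
    Unram17Lib.exists_chart f i W hW U hU hUW (hU.preimage i) (i.app_surjective U hU) y hyU
      (by rw [f.smoothLocus_eq_top]; trivial) (by rw [(i ≫ f).smoothLocus_eq_top]; trivial)
  let D := Γ(X, V)
  let φ : MvPolynomial (Fin m' ⊕ Fin r) Γ(S, W) →+* D :=
    MvPolynomial.eval₂Hom (f.appLE W V (hVU.trans hUW)).hom v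
  have hφC : φ.comp MvPolynomial.C = (f.appLE W V (hVU.trans hUW)).hom :=
    MvPolynomial.eval₂Hom_comp_C _ _
  let I : Ideal D := Ideal.span (Set.range fun j => φ (MvPolynomial.X (Sum.inr j)))
  have hIv : I = Ideal.span (Set.range fun j => v (Sum.inr j)) := by
    simp [I, φ]
    rfl
  have hI : RingHom.ker (i.app V).hom = I := by
    rw [hIv]
    exact le_antisymm hker' (Ideal.span_le.2 (by rintro _ ⟨j, rfl⟩; exact hker j))
  -- dimensions
  have hd1 : (m + c : ℕ) = m' + r := by
    have h1 := fibreDimAt_sum f hW hV (hVU.trans hUW) φ hφC het (i.base y) hyV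
    rw [FibDimLib.fibreDimAt_smoothOfRelativeDimension (m + c) f] at h1
    exact_mod_cast h1
  obtain ⟨ψ, hψ, hψC⟩ := exists_quot_chart r m' φ het
  have hd2 : m = m' := by
    let e := RingHom.quotientKerEquivOfSurjective (f := (i.app V).hom) hsurjV
    let e' : (D ⧸ I) ≃+* Γ(Y, i ⁻¹ᵁ V) := (Ideal.quotEquivOfEq hI.symm).trans e
    have eY : i ⁻¹ᵁ V ≤ (i ≫ f) ⁻¹ᵁ W := fun z hz => hUW (hVU hz)
    have hc : (e'.toRingHom.comp ψ).comp MvPolynomial.C = ((i ≫ f).appLE W (i ⁻¹ᵁ V) eY).hom := by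
      refine RingHom.ext fun a => ?_
      have ha : ψ (MvPolynomial.C a) = Ideal.Quotient.mk I (φ (MvPolynomial.C a)) := RingHom.congr_fun hψC a
      show e' (ψ (MvPolynomial.C a)) = _
      rw [ha]
      show (i.app V) (φ (MvPolynomial.C a)) = _
      rw [show φ (MvPolynomial.C a) = (f.appLE W V (hVU.trans hUW)) a from RingHom.congr_fun hφC a,
        ← CommRingCat.comp_apply, Scheme.Hom.app_eq_appLE, Scheme.Hom.appLE_comp_appLE]
    have h1 := FibDimLib.fibreDimAt_chart (i ≫ f) hW hiV eY (e'.toRingHom.comp ψ) hc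
      (RingHom.Etale.respectsIso.1 ψ e' hψ) y hyV
    rw [FibDimLib.fibreDimAt_smoothOfRelativeDimension m (i ≫ f)] at h1
    exact_mod_cast h1
  obtain rfl : r = c := by omega
  obtain ⟨t, ht⟩ := exists_isPullback_chart i hV hiV I hsurjV hI
  -- adjoining a root of unity
  have hnD : IsUnit (n : D) := by
    simpa using hn.map (X.presheaf.map (homOfLE (le_top : V ≤ ⊤)).op).hom
  obtain ⟨A, _, _, hA, ⟨ζ, hζ⟩, q, hq⟩ := EtPurEqLib.exists_root_etale hnD h0 (hV.primeIdealOf ⟨i.base y, hyV⟩)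
  let u : Spec (CommRingCat.of A) ⟶ Spec (CommRingCat.of D) := Spec.map (CommRingCat.ofHom (algebraMap D A))
  haveI : AlgebraicGeometry.Etale u :=
    (HasRingHomProperty.Spec_iff (P := @AlgebraicGeometry.Etale)).2 (RingHom.etale_algebraMap.2 hA)
  let yv : Fin r → A := fun j => algebraMap D A (φ (MvPolynomial.X (Sum.inr j)))
  have hspan : Ideal.span (Set.range yv) = I.map (algebraMap D A) := by
    rw [Ideal.map_span, ← Set.range_comp]
    rfl
  refine ⟨Γ(S, W), A, inferInstance, inferInstance, yv, ζ, u ≫ hV.fromSpec, inferInstance, q, ?_, ?_, ?_, hζ, ?_⟩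
  · show hV.fromSpec.base (u.base q) = _
    rw [show u.base q = hV.primeIdealOf ⟨i.base y, hyV⟩ from hq]
    exact hV.fromSpec_primeIdealOf ⟨i.base y, hyV⟩
  · let σ := (MvPolynomial.renameEquiv Γ(S, W) (Equiv.sumComm (Fin r) (Fin m'))).toRingEquiv
    refine ⟨m', ((algebraMap D A).comp φ).comp σ.toRingHom, ?_, fun j => ?_⟩
    · exact RingHom.Etale.respectsIso.2 _ σ (RingHom.Etale.stableUnderComposition φ (algebraMap D A) het
        (RingHom.etale_algebraMap.2 hA))
    · show algebraMap D A (φ (MvPolynomial.rename _ (MvPolynomial.X (Sum.inl j)))) = _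
      rw [MvPolynomial.rename_X]
      rfl
  · simpa using hnD.map (algebraMap D A)
  · rw [hspan]
    have hp := (isPullback_SpecMap_of_isPushout _ _ _ _ (isPushout_quot (algebraMap D A) I)).paste_horiz ht
    exact ⟨_, hp⟩

end EtSmPairLib
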